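import Groth.Agent.SGA3bLib.Rigid
import Mathlib.RingTheory.Flat.FaithfullyFlat.Algebra
import Mathlib.LinearAlgebra.TensorProduct.RightExactness
import Mathlib.RingTheory.Localization.BaseChange
import Mathlib.RingTheory.Bialgebra.Convolution

/-! Rigidity for groups of multiplicative type, by base change to the diagonalisable case. -/

universe u

open TensorProduct Coalgebra WithConv

namespace Groth.Agent.SGA3bLib

variable {R : Type u} [CommRing R] {A : Type u} [CommRing A] [HopfAlgebra R A]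
  {C : Type u} [CommRing C] [HopfAlgebra R C]

/-- Either the source is cocommutative or the second map is trivial. -/
def Adm (ψ : C →ₐc[R] A) : Prop :=
  Coalgebra.IsCocomm R C ∨ ∀ c : C, ψ c = algebraMap R A (counit c)

/-- Base change of a map of bialgebras. -/
noncomputable def bcHom (R' : Type u) [CommRing R'] [Algebra R R'] (φ : C →ₐc[R] A) :
    R' ⊗[R] C →ₐc[R'] R' ⊗[R] A :=
  Bialgebra.TensorProduct.map (BialgHom.id R' R') φ

theorem bcHom_tmul (R' : Type u) [CommRing R'] [Algebra R R'] (φ : C →ₐc[R] A) (r : R') (c : C) :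
    bcHom R' φ (r ⊗ₜ c) = r ⊗ₜ φ c := rfl

theorem adm_bc (R' : Type u) [CommRing R'] [Algebra R R'] {ψ : C →ₐc[R] A} (h : Adm ψ) :
    Adm (bcHom R' ψ) := by
  rcases h with h | h
  · exact Or.inl inferInstance
  · refine Or.inr fun x => ?_
    induction x using TensorProduct.induction_on with
    | zero => simp
    | add a b ha hb => simp [ha, hb, TensorProduct.add_tmul]
    | tmul r c =>
      rw [bcHom_tmul, h, Algebra.algebraMap_eq_smul_one, TensorProduct.tmul_smul, TensorProduct.smul_tmul',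
        TensorProduct.counit_tmul, Algebra.TensorProduct.algebraMap_apply]
      simp [Algebra.smul_def]

theorem hyp_bc (R' : Type u) [CommRing R'] [Algebra R R'] {I : Ideal R} {φ ψ : C →ₐc[R] A}
    (h : ∀ c, φ c - ψ c ∈ I.map (algebraMap R A)) (x : R' ⊗[R] C) :
    bcHom R' φ x - bcHom R' ψ x ∈ (I.map (algebraMap R R')).map (algebraMap R' (R' ⊗[R] A)) := by
  have hmap : (I.map (algebraMap R R')).map (algebraMap R' (R' ⊗[R] A)) =
      (I.map (algebraMap R A)).map (Algebra.TensorProduct.includeRight : A →ₐ[R] R' ⊗[R] A).toRingHom := by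
    rw [Ideal.map_map, Ideal.map_map, ← IsScalarTower.algebraMap_eq, AlgHom.toRingHom_eq_coe,
      AlgHom.comp_algebraMap]
  induction x using TensorProduct.induction_on with
  | zero => simp
  | add a b ha hb =>
    rw [map_add, map_add, add_sub_add_comm]
    exact Ideal.add_mem _ ha hb
  | tmul r c =>
    rw [bcHom_tmul, bcHom_tmul, ← TensorProduct.tmul_sub, hmap,
      show r ⊗ₜ[R] (φ c - ψ c) = (r ⊗ₜ[R] (1 : A)) * ((1 : R') ⊗ₜ[R] (φ c - ψ c)) by simp]
    exact Ideal.mul_mem_left _ _ (Ideal.mem_map_of_mem _ (h c))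

theorem eq_of_bcHom_eq (R' : Type u) [CommRing R'] [Algebra R R'] [Module.FaithfullyFlat R R']
    {φ ψ : C →ₐc[R] A} (h : bcHom R' φ = bcHom R' ψ) : φ = ψ := by
  ext c
  apply Module.FaithfullyFlat.tensorProduct_mk_injective (A := R) (B := R') A
  exact DFunLike.congr_fun h (1 ⊗ₜ c)

theorem eq_zero_of_away_cover {s : Set R} (hs : Ideal.span s = ⊤) {x : A}
    (h : ∀ f ∈ s, (1 : Localization.Away f) ⊗ₜ[R] x = 0) : x = 0 := by
  let ann : Ideal R := LinearMap.ker (LinearMap.toSpanSingleton R A x)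
  have hle : s ⊆ ann.radical := by
    intro f hf
    obtain ⟨⟨_, n, rfl⟩, hn⟩ := (IsLocalizedModule.eq_zero_iff (Submonoid.powers f)
      (TensorProduct.mk R (Localization.Away f) A 1)).mp (h f hf)
    exact ⟨n, by simpa [ann, Submonoid.smul_def] using hn⟩
  have h1 : ann.radical = ⊤ := top_le_iff.mp (hs ▸ Ideal.span_le.mpr hle)
  have : (1 : R) ∈ ann := by rw [Ideal.radical_eq_top.mp h1]; trivial
  simpa [ann] using this

theorem eq_of_cover {s : Set R} (hs : Ideal.span s = ⊤) {φ ψ : C →ₐc[R] A}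
    (h : ∀ f ∈ s, bcHom (Localization.Away f) φ = bcHom (Localization.Away f) ψ) : φ = ψ := by
  ext c
  refine sub_eq_zero.mp (eq_zero_of_away_cover hs fun f hf => ?_)
  rw [TensorProduct.tmul_sub, sub_eq_zero]
  exact DFunLike.congr_fun (h f hf) (1 ⊗ₜ c)

theorem mem_map_of_one_tmul {I : Ideal R} {x y : A} (h : (1 : R ⧸ I) ⊗ₜ[R] x = (1 : R ⧸ I) ⊗ₜ[R] y) :
    x - y ∈ I.map (algebraMap R A) := by
  have h1 : x - y ∈ LinearMap.ker (TensorProduct.mk R (R ⧸ I) A 1) := by
    rw [LinearMap.mem_ker, TensorProduct.mk_apply, TensorProduct.tmul_sub, h, sub_self]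
  rw [LinearMap.ker_tensorProductMk] at h1
  rw [Ideal.smul_top_eq_map] at h1
  exact h1

variable {M : Type u} [CommMonoid M]

theorem commute_comp_of_adm (e : A ≃ₐc[R] MonoidAlgebra R M) (φ : C →ₐc[R] A) {ψ : C →ₐc[R] A} (hψ : Adm ψ)
    (m : M) : Commute (comp ((e : A →ₐc[R] MonoidAlgebra R M).comp φ) m)
      (comp ((e : A →ₐc[R] MonoidAlgebra R M).comp ψ) m) := by
  classical
  rcases hψ with h | h
  · exact commute_comp_of_isCocomm _ _
  · rw [show comp ((e : A →ₐc[R] MonoidAlgebra R M).comp ψ) m = if (1 : M) = m then 1 else 0 from ?_]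
    · exact commute_ite _ _
    refine WithConv.ofConv_injective (LinearMap.ext fun c => ?_)
    rw [← coef_algebraMap_counit m c, comp_apply, BialgHom.comp_apply, h c]
    exact congrArg (coef m) (AlgHomClass.commutes (e : A →ₐc[R] MonoidAlgebra R M) _)

theorem sub_mem_of_equiv (e : A ≃ₐc[R] MonoidAlgebra R M) {I : Ideal R} {φ ψ : C →ₐc[R] A}
    (h : ∀ c, φ c - ψ c ∈ I.map (algebraMap R A)) (m : M) (c : C) :
    (comp ((e : A →ₐc[R] MonoidAlgebra R M).comp φ) m - comp ((e : A →ₐc[R] MonoidAlgebra R M).comp ψ) m).ofConv c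
      ∈ I := by
  let e' : A →ₐ[R] MonoidAlgebra R M := ((e : A →ₐc[R] MonoidAlgebra R M) : A →ₐ[R] MonoidAlgebra R M)
  have h1 : e' (φ c - ψ c) ∈ I.map (algebraMap R (MonoidAlgebra R M)) := by
    rw [← AlgHom.comp_algebraMap e', ← Ideal.map_map]
    exact Ideal.mem_map_of_mem _ (h c)
  have h2 := mem_map_ideal_iff.mp h1 m
  simp only [e', map_sub] at h2
  exact h2

theorem eq_of_diag_nilpotent (hA : SGA3b.IsDiag R A) {I : Ideal R} (hI : IsNilpotent I) {φ ψ : C →ₐc[R] A}
    (hψ : Adm ψ) (h : ∀ c, φ c - ψ c ∈ I.map (algebraMap R A)) : φ = ψ := by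
  obtain ⟨M, _, ⟨e⟩⟩ := hA
  ext c
  apply e.injective
  refine ext_coef fun m => ?_
  exact LinearMap.congr_fun (congrArg WithConv.ofConv (eq_of_idem_of_nilpotent hI (isIdempotentElem_comp _ m)
    (isIdempotentElem_comp _ m) (commute_comp_of_adm e φ hψ m) (sub_mem_of_equiv e h m))) c

theorem eq_of_multType_nilpotent (hA : SGA3b.IsMultType R A) {I : Ideal R} (hI : IsNilpotent I)
    {φ ψ : C →ₐc[R] A} (hψ : Adm ψ) (h : ∀ c, φ c - ψ c ∈ I.map (algebraMap R A)) : φ = ψ := by
  obtain ⟨s, hs, hd⟩ := hA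
  refine eq_of_cover hs fun f hf => ?_
  obtain ⟨R', _, _, _, hdiag⟩ := hd f hf
  refine eq_of_bcHom_eq R' (eq_of_diag_nilpotent hdiag
    (I := (I.map (algebraMap R (Localization.Away f))).map (algebraMap (Localization.Away f) R')) ?_
    (adm_bc R' (adm_bc _ hψ)) (hyp_bc R' (hyp_bc _ h)))
  obtain ⟨k, hk⟩ := hI
  refine ⟨k, ?_⟩
  rw [← Ideal.map_pow, ← Ideal.map_pow, hk]
  simp

/-- The trivial homomorphism. -/
noncomputable def trivHom : C →ₐc[R] A := (Bialgebra.unitBialgHom R A).comp (Bialgebra.counitBialgHom R C)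

theorem trivHom_apply (c : C) : (trivHom : C →ₐc[R] A) c = algebraMap R A (counit c) := rfl

theorem adm_trivHom : Adm (trivHom : C →ₐc[R] A) := Or.inr trivHom_apply

end Groth.Agent.SGA3bLib
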