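import Groth.Prelude.Def_SGA3b
import Groth.Agent.SGA3bLib.Stages
import Mathlib.RingTheory.HopfAlgebra.Quotient
import Mathlib.RingTheory.HopfAlgebra.MonoidAlgebra
import Mathlib.RingTheory.Bialgebra.MonoidAlgebra
import Mathlib.RingTheory.Bialgebra.TensorProduct
import Mathlib.RingTheory.Bialgebra.Convolution
import Mathlib.RingTheory.HopfAlgebra.GroupLike
import Mathlib.LinearAlgebra.TensorProduct.RightExactness

/-! Quotients of diagonalisable Hopf algebras and torsion ideals. -/

universe u

open TensorProduct Coalgebra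

namespace Groth.Agent.SGA3bLib

section General

variable {R : Type u} [CommRing R] {A B₁ B₂ : Type u} [CommRing A] [Bialgebra R A] [CommRing B₁] [Bialgebra R B₁]
  [CommRing B₂] [Bialgebra R B₂]

/-- An algebra map commuting with two bialgebra maps, the first surjective, is a bialgebra map. -/
noncomputable def bialgHomOfComp (π₁ : A →ₐc[R] B₁) (π₂ : A →ₐc[R] B₂) (h₁ : Function.Surjective π₁)
    (f : B₁ →ₐ[R] B₂) (hf : ∀ a, f (π₁ a) = π₂ a) : B₁ →ₐc[R] B₂ :=
  BialgHom.ofAlgHom f
    (AlgHom.ext fun b => by
      obtain ⟨a, rfl⟩ := h₁ b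
      simp [hf])
    (AlgHom.ext fun b => by
      obtain ⟨a, rfl⟩ := h₁ b
      simp only [AlgHom.comp_apply, Bialgebra.comulAlgHom_apply, hf]
      rw [← CoalgHomClass.map_comp_comul_apply π₁ a, ← CoalgHomClass.map_comp_comul_apply π₂ a]
      generalize comul (R := R) a = t
      induction t using TensorProduct.induction_on with
      | zero => simp
      | tmul x y => simp [hf]
      | add x y hx hy => simp [hx, hy])

/-- Two quotients with the same kernel are isomorphic. -/
theorem nonempty_equiv_of_ker_eq (π₁ : A →ₐc[R] B₁) (π₂ : A →ₐc[R] B₂) (h₁ : Function.Surjective π₁)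
    (h₂ : Function.Surjective π₂)
    (h : RingHom.ker (π₁ : A →ₐ[R] B₁) = RingHom.ker (π₂ : A →ₐ[R] B₂)) : Nonempty (B₁ ≃ₐc[R] B₂) := by
  have hiff : ∀ a b, π₁ a = π₁ b ↔ π₂ a = π₂ b := fun a b => by
    have := SetLike.ext_iff.mp h (a - b)
    simpa [RingHom.mem_ker, sub_eq_zero] using this
  let f : B₁ →ₐ[R] B₂ := AlgHom.liftOfSurjective (π₁ : A →ₐ[R] B₁) h₁ (π₂ : A →ₐ[R] B₂) h.le
  have hf : ∀ a, f (π₁ a) = π₂ a := fun a => by simp [f]; exact AlgHom.liftOfSurjective_apply _ _ _ _ a
  refine ⟨BialgEquiv.ofBijective (bialgHomOfComp π₁ π₂ h₁ f hf) ⟨fun x y hxy => ?_, fun y => ?_⟩⟩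
  · obtain ⟨a, rfl⟩ := h₁ x
    obtain ⟨b, rfl⟩ := h₁ y
    refine (hiff a b).mpr ?_
    rw [← hf a, ← hf b]
    exact hxy
  · obtain ⟨a, rfl⟩ := h₂ y
    exact ⟨π₁ a, hf a⟩

theorem bcHom_surjective {C D : Type u} [CommRing C] [HopfAlgebra R C] [CommRing D] [HopfAlgebra R D]
    (R' : Type u) [CommRing R'] [Algebra R R'] (π : C →ₐc[R] D) (hπ : Function.Surjective π) :
    Function.Surjective (bcHom R' π) :=
  LinearMap.lTensor_surjective R' (g := (π : C →ₐ[R] D).toLinearMap) hπ

theorem ker_bcHom {C D : Type u} [CommRing C] [HopfAlgebra R C] [CommRing D] [HopfAlgebra R D]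
    (R' : Type u) [CommRing R'] [Algebra R R'] (π : C →ₐc[R] D) (hπ : Function.Surjective π) :
    RingHom.ker (bcHom R' π : R' ⊗[R] C →ₐ[R'] R' ⊗[R] D) =
      (RingHom.ker (π : C →ₐ[R] D)).map (Algebra.TensorProduct.includeRight : C →ₐ[R] R' ⊗[R] C) := by
  rw [← Algebra.TensorProduct.lTensor_ker (A := R') (π : C →ₐ[R] D) hπ]
  rfl

/-- Successive base changes. -/
noncomputable def cancelBC (S T : Type u) [CommRing S] [CommRing T] [Algebra R S] [Algebra R T] [Algebra S T]
    [IsScalarTower R S T] (C : Type u) [CommRing C] [Bialgebra R C] :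
    T ⊗[S] (S ⊗[R] C) ≃ₐc[T] T ⊗[R] C :=
  BialgEquiv.ofAlgEquiv (Algebra.TensorProduct.cancelBaseChange R S T T C)
    (by
      refine Algebra.TensorProduct.ext (AlgHom.ext fun r => by simp [Algebra.TensorProduct.one_def, Algebra.smul_def]) ?_
      refine Algebra.TensorProduct.ext (AlgHom.ext fun r => by simp [Algebra.TensorProduct.one_def, Algebra.smul_def]) (AlgHom.ext fun c => ?_)
      simp [← Algebra.algebraMap_eq_smul_one])
    (by
      refine Algebra.TensorProduct.ext (AlgHom.ext fun r => by simp [Algebra.TensorProduct.one_def, Algebra.smul_def]) ?_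
      refine Algebra.TensorProduct.ext (AlgHom.ext fun r => by simp [Algebra.TensorProduct.one_def, Algebra.smul_def]) (AlgHom.ext fun c => ?_)
      simp only [AlgHom.comp_apply, AlgHom.restrictScalars_apply, Algebra.TensorProduct.includeRight_apply,
        Bialgebra.comulAlgHom_apply, AlgEquiv.coe_toAlgHom, TensorProduct.comul_tmul]
      simp only [Algebra.TensorProduct.cancelBaseChange_tmul, TensorProduct.comul_tmul, one_smul,
        Bialgebra.comul_one, Algebra.TensorProduct.one_def]
      generalize comul (R := R) c = t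
      induction t using TensorProduct.induction_on with
      | zero => simp
      | tmul x y => simp
      | add x y hx hy => simp_all [TensorProduct.tmul_add])

theorem span_groupLike_map {C D : Type u} [CommRing C] [Bialgebra R C] [CommRing D] [Bialgebra R D]
    (π : C →ₐc[R] D) (hπ : Function.Surjective π) (h : Submodule.span R {a : C | IsGroupLikeElem R a} = ⊤) :
    Submodule.span R {a : D | IsGroupLikeElem R a} = ⊤ := by
  refine top_le_iff.mp ?_
  rw [← LinearMap.range_eq_top.mpr (show Function.Surjective (π : C →ₐ[R] D).toLinearMap from hπ),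
    LinearMap.range_eq_map, ← h, Submodule.map_span, Submodule.span_le]
  rintro _ ⟨a, ha, rfl⟩
  exact Submodule.subset_span (ha.map π)

theorem span_groupLike_bc {C : Type u} [CommRing C] [Bialgebra R C] (R' : Type u) [CommRing R'] [Algebra R R']
    (h : Submodule.span R {a : C | IsGroupLikeElem R a} = ⊤) :
    Submodule.span R' {a : R' ⊗[R] C | IsGroupLikeElem R' a} = ⊤ := by
  refine top_le_iff.mp ?_
  rw [← Submodule.baseChange_top (A := R') (M := C), ← h,
    Submodule.baseChange_span, Submodule.span_le]
  rintro _ ⟨a, ha, rfl⟩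
  refine Submodule.subset_span ⟨?_, ?_⟩
  · simp [ha.counit_eq_one, Algebra.smul_def]
  · simp [ha.comul_eq_tmul_self]

theorem span_groupLike_of_diag {C : Type u} [CommRing C] [HopfAlgebra R C] (h : SGA3b.IsDiag R C) :
    Submodule.span R {a : C | IsGroupLikeElem R a} = ⊤ := by
  obtain ⟨M, _, ⟨e⟩⟩ := h
  refine span_groupLike_map (e.symm : MonoidAlgebra R M →ₐc[R] C) e.symm.surjective (top_le_iff.mp fun x _ => ?_)
  induction x using MonoidAlgebra.induction_linear with
  | zero => exact zero_mem _
  | add a b ha hb => exact add_mem (ha trivial) (hb trivial)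
  | single m r =>
    rw [show MonoidAlgebra.single m r = r • MonoidAlgebra.single m (1 : R) by simp]
    exact Submodule.smul_mem _ _ (Submodule.subset_span ⟨by simp, by simp⟩)

end General

/-- Over a field, a Hopf algebra spanned by group-like elements is diagonalisable. -/
theorem isDiag_of_span_groupLike {k : Type u} [Field k] {C : Type u} [CommRing C] [HopfAlgebra k C]
    (h : Submodule.span k {a : C | IsGroupLikeElem k a} = ⊤) : SGA3b.IsDiag k C := by
  let val : GroupLike k C →* C :=
    { toFun := GroupLike.val, map_one' := GroupLike.val_one, map_mul' := GroupLike.val_mul }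
  let f : MonoidAlgebra k (GroupLike k C) →ₐ[k] C := MonoidAlgebra.lift k C (GroupLike k C) val
  have hf : ∀ g, f (MonoidAlgebra.single g 1) = g.val := fun g => by simp [f, val]
  let φ : MonoidAlgebra k (GroupLike k C) →ₐc[k] C := BialgHom.ofAlgHom f
    (MonoidAlgebra.algHom_ext (single_one_left := Subsingleton.elim _ _) fun g => by simp [hf])
    (MonoidAlgebra.algHom_ext (single_one_left := Subsingleton.elim _ _) fun g => by simp [hf])
  refine ⟨GroupLike k C, inferInstance, ⟨(BialgEquiv.ofBijective φ ⟨?_, ?_⟩).symm⟩⟩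
  · have hli : LinearIndependent k (fun g : GroupLike k C => g.val) := linearIndep_groupLikeVal
    intro x y hxy
    apply (MonoidAlgebra.coeffLinearEquiv k).injective
    apply hli
    have hlc : ∀ z, Finsupp.linearCombination k (fun g : GroupLike k C => g.val) ((MonoidAlgebra.coeffLinearEquiv k) z) = φ z := by
      intro z
      induction z using MonoidAlgebra.induction_linear with
      | zero => simp
      | add a b ha hb => rw [map_add, map_add, ha, hb, map_add]
      | single g r => simp [φ, f, val]
    rw [hlc, hlc, hxy]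
  · intro x
    have hx : x ∈ LinearMap.range (φ : MonoidAlgebra k (GroupLike k C) →ₐ[k] C).toLinearMap := by
      refine (Submodule.span_le.mpr ?_ : Submodule.span k {a : C | IsGroupLikeElem k a} ≤ _) (h ▸ Submodule.mem_top)
      intro a ha
      exact ⟨MonoidAlgebra.single ⟨a, ha⟩ 1, hf _⟩
    exact hx

end Groth.Agent.SGA3bLib
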