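import Groth.Agent.SGA3bLib.DiagQuot
import Mathlib.RingTheory.FiniteType
import Mathlib.RingTheory.Localization.Finiteness
import Mathlib.RingTheory.Finiteness.Descent
import Mathlib.GroupTheory.FiniteAbelian.Basic

/-! Torsion ideals of Hopf algebras of multiplicative type. -/

universe u

open TensorProduct Coalgebra

namespace Groth.Agent.SGA3bLib

variable {R : Type u} [CommRing R] {A : Type u} [CommRing A] [HopfAlgebra R A]

theorem powConv_comp {C : Type u} [CommRing C] [HopfAlgebra R C] (φ : A →ₐc[R] C) (n : ℕ) :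
    (SGA3b.powConv R C n).comp (φ : A →ₐ[R] C) = (φ : A →ₐ[R] C).comp (SGA3b.powConv R A n) := by
  induction n with
  | zero =>
    simp only [SGA3b.powConv, pow_zero]
    ext a
    simp
    exact (AlgHomClass.commutes φ _).symm
  | succ n ih =>
    simp only [SGA3b.powConv, pow_succ] at ih ⊢
    rw [AlgHom.convMul_comp_bialgHom_distrib, AlgHom.comp_convMul_distrib]
    refine congrArg₂ (fun x y => (x * y : WithConv (A →ₐ[R] C)).ofConv) (congrArg WithConv.toConv ?_) rfl
    exact ih

theorem counit_comp_powConv_ker {C : Type u} [CommRing C] [HopfAlgebra R C] (φ : A →ₐc[R] C) (hφ : Function.Surjective φ) :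
    (RingHom.ker (Bialgebra.counitAlgHom R A)).map (φ : A →ₐ[R] C) = RingHom.ker (Bialgebra.counitAlgHom R C) := by
  refine le_antisymm (Ideal.map_le_iff_le_comap.mpr fun a ha => ?_) fun c hc => ?_
  · simpa [RingHom.mem_ker] using (CoalgHomClass.counit_comp_apply φ a).trans ha
  · obtain ⟨a, rfl⟩ := hφ c
    refine Ideal.mem_map_of_mem _ ?_
    simpa [RingHom.mem_ker] using hc

/-- Torsion ideals commute with surjective homomorphisms. -/
theorem map_torsionIdeal {C : Type u} [CommRing C] [HopfAlgebra R C] (φ : A →ₐc[R] C) (hφ : Function.Surjective φ)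
    (n : ℕ) : (SGA3b.torsionIdeal R A n).map (φ : A →ₐ[R] C) = SGA3b.torsionIdeal R C n := by
  rw [SGA3b.torsionIdeal, SGA3b.torsionIdeal, ← counit_comp_powConv_ker φ hφ,
    Ideal.map_mapₐ, Ideal.map_mapₐ, powConv_comp]

theorem torsionIdeal_eq_comap {C : Type u} [CommRing C] [HopfAlgebra R C] (e : A ≃ₐc[R] C) (n : ℕ) :
    SGA3b.torsionIdeal R A n = (SGA3b.torsionIdeal R C n).comap ((e : A →ₐc[R] C) : A →ₐ[R] C) := by
  rw [← map_torsionIdeal (e : A →ₐc[R] C) e.surjective,
    Ideal.comap_map_of_surjective ((e : A →ₐc[R] C) : A →ₐ[R] C) e.surjective]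
  refine (sup_eq_left.mpr fun x hx => ?_).symm
  have : x = 0 := e.injective ((show e x = 0 from hx).trans (map_zero e).symm)
  exact this ▸ zero_mem _

section BaseChange

variable (R' : Type u) [CommRing R'] [Algebra R R']

/-- Restriction along `a ↦ 1 ⊗ a`, as a map of convolution monoids. -/
theorem convMul_comp_includeRight {T : Type u} [CommRing T] [Algebra R' T] [Algebra R T] [IsScalarTower R R' T]
    (f g : WithConv (R' ⊗[R] A →ₐ[R'] T)) :
    ((f * g).ofConv.restrictScalars R).comp (Algebra.TensorProduct.includeRight : A →ₐ[R] R' ⊗[R] A) =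
      (WithConv.toConv ((f.ofConv.restrictScalars R).comp Algebra.TensorProduct.includeRight) *
        WithConv.toConv ((g.ofConv.restrictScalars R).comp Algebra.TensorProduct.includeRight)).ofConv := by
  refine AlgHom.ext fun a => ?_
  simp only [AlgHom.comp_apply, AlgHom.restrictScalars_apply, Algebra.TensorProduct.includeRight_apply,
    AlgHom.convMul_def, WithConv.ofConv_toConv, Bialgebra.comulAlgHom_apply, TensorProduct.comul_tmul,
    Bialgebra.comul_one, Algebra.TensorProduct.one_def]
  generalize comul (R := R) a = t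
  induction t using TensorProduct.induction_on with
  | zero => simp
  | tmul x y => simp
  | add x y hx hy => simp_all [TensorProduct.tmul_add]

theorem powConv_baseChange (n : ℕ) :
    SGA3b.powConv R' (R' ⊗[R] A) n = Algebra.TensorProduct.map (AlgHom.id R' R') (SGA3b.powConv R A n) := by
  have key : ∀ n, ((SGA3b.powConv R' (R' ⊗[R] A) n).restrictScalars R).comp
      (Algebra.TensorProduct.includeRight : A →ₐ[R] R' ⊗[R] A) =
      (Algebra.TensorProduct.includeRight : A →ₐ[R] R' ⊗[R] A).comp (SGA3b.powConv R A n) := by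
    intro n
    induction n with
    | zero =>
      simp only [SGA3b.powConv, pow_zero]
      refine AlgHom.ext fun a => ?_
      simp [Algebra.TensorProduct.one_def, TensorProduct.smul_tmul', Algebra.algebraMap_eq_smul_one]
    | succ n ih =>
      simp only [SGA3b.powConv, pow_succ] at ih ⊢
      rw [convMul_comp_includeRight, AlgHom.comp_convMul_distrib]
      exact congrArg₂ (fun x y => (x * y : WithConv (A →ₐ[R] R' ⊗[R] A)).ofConv) (congrArg WithConv.toConv ih) rfl
  refine Algebra.TensorProduct.ext (AlgHom.ext fun r => ?_) ?_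
  · change SGA3b.powConv R' _ n (algebraMap R' (R' ⊗[R] A) r) =
      Algebra.TensorProduct.map (AlgHom.id R' R') (SGA3b.powConv R A n) (algebraMap R' (R' ⊗[R] A) r)
    rw [AlgHom.commutes, AlgHom.commutes]
  · rw [key]
    rfl

/-- Torsion ideals commute with base change. -/
theorem torsionIdeal_baseChange (n : ℕ) :
    SGA3b.torsionIdeal R' (R' ⊗[R] A) n =
      (SGA3b.torsionIdeal R A n).map (Algebra.TensorProduct.includeRight : A →ₐ[R] R' ⊗[R] A) := by
  have hker : RingHom.ker (Bialgebra.counitAlgHom R' (R' ⊗[R] A)) =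
      (RingHom.ker (Bialgebra.counitAlgHom R A)).map (Algebra.TensorProduct.includeRight : A →ₐ[R] R' ⊗[R] A) := by
    rw [← Algebra.TensorProduct.lTensor_ker (A := R') (Bialgebra.counitAlgHom R A)
      (fun r => ⟨algebraMap R A r, by simp⟩)]
    ext x
    rw [RingHom.mem_ker, RingHom.mem_ker, show Bialgebra.counitAlgHom R' (R' ⊗[R] A) x =
      Algebra.TensorProduct.rid R R' R' (Algebra.TensorProduct.map (AlgHom.id R R') (Bialgebra.counitAlgHom R A) x) from ?_]
    · exact EmbeddingLike.map_eq_zero_iff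
    · induction x using TensorProduct.induction_on with
      | zero => simp
      | tmul r a => simp [Algebra.smul_def, mul_comm]
      | add x y hx hy => rw [map_add, map_add, map_add, hx, hy]
  rw [SGA3b.torsionIdeal, SGA3b.torsionIdeal, hker, powConv_baseChange]
  change Ideal.map (Algebra.TensorProduct.map (AlgHom.id R' R') (SGA3b.powConv R A n) : R' ⊗[R] A →ₐ[R'] R' ⊗[R] A).toRingHom
    (Ideal.map (Algebra.TensorProduct.includeRight : A →ₐ[R] R' ⊗[R] A).toRingHom _) =
    Ideal.map (Algebra.TensorProduct.includeRight : A →ₐ[R] R' ⊗[R] A).toRingHom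
      (Ideal.map (SGA3b.powConv R A n).toRingHom _)
  rw [Ideal.map_map, Ideal.map_map]
  rfl

end BaseChange

section GroupAlgebra

variable {M : Type u} [CommGroup M]

theorem powConv_single (n : ℕ) (m : M) :
    SGA3b.powConv R (MonoidAlgebra R M) n (MonoidAlgebra.single m 1) = MonoidAlgebra.single (m ^ n) 1 := by
  induction n with
  | zero => simp [SGA3b.powConv]
  | succ n ih =>
    simp only [SGA3b.powConv, pow_succ] at ih ⊢
    simp [AlgHom.convMul_def, ih, MonoidAlgebra.single_mul_single]

/-- The kernel of `R[M] → R[M ⧸ N]` is generated by the `n - 1`. -/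
theorem ker_mapDomain (N : Subgroup M) :
    RingHom.ker (MonoidAlgebra.mapDomainBialgHom R (QuotientGroup.mk' N) :
        MonoidAlgebra R M →ₐ[R] MonoidAlgebra R (M ⧸ N)) =
      Ideal.span {x | ∃ m ∈ N, x = MonoidAlgebra.single m (1 : R) - 1} := by
  set J : Ideal (MonoidAlgebra R M) := Ideal.span {x | ∃ m ∈ N, x = MonoidAlgebra.single m (1 : R) - 1}
  refine le_antisymm (fun x hx => ?_) (Ideal.span_le.mpr ?_)
  · let σ : MonoidAlgebra R (M ⧸ N) →ₗ[R] MonoidAlgebra R M :=
      (MonoidAlgebra.coeffLinearEquiv R).symm.toLinearMap ∘ₗ Finsupp.lmapDomain R R Quotient.out ∘ₗ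
        (MonoidAlgebra.coeffLinearEquiv R).toLinearMap
    have key : ∀ y : MonoidAlgebra R M, σ (MonoidAlgebra.mapDomainBialgHom R (QuotientGroup.mk' N) y) - y ∈ J := by
      intro y
      induction y using MonoidAlgebra.induction_linear with
      | zero => simp
      | add a b ha hb =>
        rw [map_add, map_add, add_sub_add_comm]
        exact add_mem ha hb
      | single m r =>
        have h1 : σ (MonoidAlgebra.mapDomainBialgHom R (QuotientGroup.mk' N) (MonoidAlgebra.single m r)) =
            MonoidAlgebra.single (Quotient.out (QuotientGroup.mk' N m : M ⧸ N)) r := by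
          simp [σ]
        obtain ⟨a, ha⟩ : ∃ a : N, Quotient.out (QuotientGroup.mk' N m : M ⧸ N) = m * a :=
          ⟨_, (QuotientGroup.mk_out_eq_mul N m).choose_spec⟩
        rw [h1, ha, show (MonoidAlgebra.single (m * a) r : MonoidAlgebra R M) - MonoidAlgebra.single m r =
          MonoidAlgebra.single m r * (MonoidAlgebra.single (a : M) (1 : R) - 1) by
          rw [mul_sub, MonoidAlgebra.single_mul_single, mul_one, mul_one]]
        exact Ideal.mul_mem_left _ _ (Ideal.subset_span ⟨a, a.2, rfl⟩)
    have hx0 : MonoidAlgebra.mapDomainBialgHom R (QuotientGroup.mk' N) x = 0 := hx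
    have := key x
    rw [hx0, map_zero, zero_sub] at this
    exact neg_mem_iff.mp this
  · rintro _ ⟨m, hm, rfl⟩
    simp [RingHom.mem_ker, (QuotientGroup.eq_one_iff m).mpr hm, MonoidAlgebra.one_def]

theorem mapDomain_surjective (N : Subgroup M) :
    Function.Surjective (MonoidAlgebra.mapDomainBialgHom R (QuotientGroup.mk' N)) := by
  intro y
  induction y using MonoidAlgebra.induction_linear with
  | zero => exact ⟨0, map_zero _⟩
  | add a b ha hb =>
    obtain ⟨a, rfl⟩ := ha
    obtain ⟨b, rfl⟩ := hb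
    exact ⟨a + b, map_add _ _ _⟩
  | single q r =>
    obtain ⟨m, rfl⟩ := QuotientGroup.mk'_surjective N q
    exact ⟨MonoidAlgebra.single m r, by simp⟩

theorem torsionIdeal_monoidAlgebra (n : ℕ) :
    SGA3b.torsionIdeal R (MonoidAlgebra R M) n =
      RingHom.ker (MonoidAlgebra.mapDomainBialgHom R (QuotientGroup.mk' (powMonoidHom n : M →* M).range) :
        MonoidAlgebra R M →ₐ[R] MonoidAlgebra R (M ⧸ (powMonoidHom n : M →* M).range)) := by
  have hk : RingHom.ker (Bialgebra.counitAlgHom R (MonoidAlgebra R M)) =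
      Ideal.span {x | ∃ m ∈ (⊤ : Subgroup M), x = MonoidAlgebra.single m (1 : R) - 1} := by
    rw [← ker_mapDomain ⊤]
    have : Subsingleton (M ⧸ (⊤ : Subgroup M)) := QuotientGroup.subsingleton_quotient_top
    ext x
    have h : ∀ x : MonoidAlgebra R M,
        MonoidAlgebra.mapDomainBialgHom R (QuotientGroup.mk' (⊤ : Subgroup M)) x =
          MonoidAlgebra.single 1 (Bialgebra.counitAlgHom R (MonoidAlgebra R M) x) := by
      intro x
      induction x using MonoidAlgebra.induction_linear with
      | zero => simp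
      | add a b ha hb => rw [map_add, map_add, ha, hb, MonoidAlgebra.single_add]
      | single m r => simp [Subsingleton.elim (QuotientGroup.mk m : M ⧸ (⊤ : Subgroup M)) 1]
    simp [RingHom.mem_ker, h]
  rw [ker_mapDomain, SGA3b.torsionIdeal, hk, Ideal.map_span]
  congr 1
  ext x
  constructor
  · rintro ⟨_, ⟨m, -, rfl⟩, rfl⟩
    exact ⟨m ^ n, ⟨m, rfl⟩, by rw [map_sub, map_one, powConv_single]⟩
  · rintro ⟨_, ⟨m, rfl⟩, rfl⟩
    exact ⟨_, ⟨m, trivial, rfl⟩, by rw [map_sub, map_one, powConv_single]; rfl⟩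

end GroupAlgebra

section Quot

variable {B : Type u} [CommRing B] [HopfAlgebra R B]

theorem ker_bcHom_eq_torsion (R' : Type u) [CommRing R'] [Algebra R R'] (π : A →ₐc[R] B) (hπ : Function.Surjective π)
    (n : ℕ) (hker : RingHom.ker (π : A →ₐ[R] B) = SGA3b.torsionIdeal R A n) :
    RingHom.ker (bcHom R' π : R' ⊗[R] A →ₐ[R'] R' ⊗[R] B) = SGA3b.torsionIdeal R' (R' ⊗[R] A) n := by
  rw [ker_bcHom R' π hπ, hker, torsionIdeal_baseChange]

/-- The `n`-torsion of a diagonalisable Hopf algebra. -/
theorem nonempty_equiv_torsion {M : Type u} [CommGroup M] (e : A ≃ₐc[R] MonoidAlgebra R M)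
    (π : A →ₐc[R] B) (hπ : Function.Surjective π) (n : ℕ)
    (hker : RingHom.ker (π : A →ₐ[R] B) = SGA3b.torsionIdeal R A n) :
    Nonempty (B ≃ₐc[R] MonoidAlgebra R (M ⧸ (powMonoidHom n : M →* M).range)) := by
  let q := MonoidAlgebra.mapDomainBialgHom R (QuotientGroup.mk' (powMonoidHom n : M →* M).range)
  refine nonempty_equiv_of_ker_eq π (q.comp (e : A →ₐc[R] MonoidAlgebra R M)) hπ
    ((mapDomain_surjective _).comp e.surjective) ?_
  rw [hker, torsionIdeal_eq_comap e, torsionIdeal_monoidAlgebra]
  rfl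

theorem isMultType_of_ker_torsion (h : SGA3b.IsMultType R A) (π : A →ₐc[R] B) (hπ : Function.Surjective π) (n : ℕ)
    (hker : RingHom.ker (π : A →ₐ[R] B) = SGA3b.torsionIdeal R A n) : SGA3b.IsMultType R B := by
  obtain ⟨s, hs, hloc⟩ := h
  refine ⟨s, hs, fun f hf => ?_⟩
  obtain ⟨R', _, _, hff, M, _, ⟨e⟩⟩ := hloc f hf
  have h₁ := bcHom_surjective (Localization.Away f) π hπ
  exact ⟨R', inferInstance, inferInstance, hff, _, inferInstance,
    nonempty_equiv_torsion e (bcHom R' (bcHom (Localization.Away f) π)) (bcHom_surjective R' _ h₁) n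
      (ker_bcHom_eq_torsion R' _ h₁ n (ker_bcHom_eq_torsion _ π hπ n hker))⟩

theorem finite_of_ker_torsion (hft : Algebra.FiniteType R A) (h : SGA3b.IsMultType R A) (π : A →ₐc[R] B)
    (hπ : Function.Surjective π) {n : ℕ} (hn : 0 < n)
    (hker : RingHom.ker (π : A →ₐ[R] B) = SGA3b.torsionIdeal R A n) : Module.Finite R B := by
  obtain ⟨s, hs, hloc⟩ := h
  refine Module.Finite.of_localizationSpan' s hs (Rₚ := fun r : s => Localization.Away (r : R))
    (fun r => TensorProduct.mk R (Localization.Away (r : R)) B 1) fun ⟨f, hf⟩ => ?_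
  obtain ⟨R', _, _, hff, M, _, ⟨e⟩⟩ := hloc f hf
  have := hff
  have h₁ := bcHom_surjective (Localization.Away f) π hπ
  obtain ⟨e'⟩ := nonempty_equiv_torsion e (bcHom R' (bcHom (Localization.Away f) π)) (bcHom_surjective R' _ h₁) n
      (ker_bcHom_eq_torsion R' _ h₁ n (ker_bcHom_eq_torsion _ π hπ n hker))
  suffices Module.Finite R' (R' ⊗[Localization.Away f] (Localization.Away f ⊗[R] B)) from
    Module.Finite.of_finite_tensorProduct_of_faithfullyFlat R'
  suffices Module.Finite R' (MonoidAlgebra R' (M ⧸ (powMonoidHom n : M →* M).range)) from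
    Module.Finite.equiv e'.toAlgEquiv.toLinearEquiv.symm
  rcases subsingleton_or_nontrivial R' with hR | hR
  · have : Subsingleton (MonoidAlgebra R' (M ⧸ (powMonoidHom n : M →* M).range)) := Module.subsingleton R' _
    infer_instance
  have hftA : Algebra.FiniteType R' (R' ⊗[Localization.Away f] (Localization.Away f ⊗[R] A)) := inferInstance
  have : Algebra.FiniteType R' (MonoidAlgebra R' M) := hftA.equiv e.toAlgEquiv
  have hfg : Group.FG M := Group.fg_iff_monoid_fg.mpr (MonoidAlgebra.finiteType_iff_fg.mp this)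
  have : Finite (M ⧸ (powMonoidHom n : M →* M).range) := by
    refine CommGroup.finite_of_fg_torsion _ fun g => ?_
    obtain ⟨m, rfl⟩ := QuotientGroup.mk'_surjective _ g
    exact isOfFinOrder_iff_pow_eq_one.mpr ⟨n, hn, by
      rw [← map_pow]; exact (QuotientGroup.eq_one_iff _).mpr ⟨m, rfl⟩⟩
  exact Module.Finite.equiv (MonoidAlgebra.coeffLinearEquiv R').symm

end Quot

end Groth.Agent.SGA3bLib
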