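import Groth.Prelude.Def_SGA3b
import Mathlib.RingTheory.HopfAlgebra.MonoidAlgebra
import Mathlib.RingTheory.HopfAlgebra.Convolution
import Mathlib.RingTheory.Bialgebra.MonoidAlgebra
import Mathlib.RingTheory.Bialgebra.TensorProduct
import Mathlib.RingTheory.Flat.FaithfullyFlat.Basic

/-! Monomorphisms into diagonalisable groups are closed immersions. -/

universe u

open TensorProduct Coalgebra

namespace Groth.Agent.SGA3bLib

variable {R : Type u} [CommRing R]

/-- Bialgebra homomorphisms of commutative Hopf algebras commute with the antipodes. -/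
theorem map_antipode {A C : Type u} [CommRing A] [HopfAlgebra R A] [CommRing C] [HopfAlgebra R C]
    (φ : C →ₐc[R] A) (c : C) : φ (HopfAlgebra.antipode R c) = HopfAlgebra.antipode R (φ c) := by
  let f : WithConv (C →ₐ[R] A) := WithConv.toConv (φ : C →ₐ[R] A)
  let g : WithConv (C →ₐ[R] A) := WithConv.toConv ((HopfAlgebra.antipodeAlgHom R A).comp (φ : C →ₐ[R] A))
  have h : g * f = 1 := by
    have e := AlgHom.convMul_comp_bialgHom_distrib (WithConv.toConv (HopfAlgebra.antipodeAlgHom R A))
      (WithConv.toConv (AlgHom.id R A)) φ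
    rw [AlgHom.antipode_id_cancel] at e
    refine WithConv.ofConv_injective ?_
    refine e.symm.trans ?_
    ext x
    simp
  have h2 : g = f⁻¹ := eq_inv_of_mul_eq_one_left h
  exact (congrArg (fun k : WithConv (C →ₐ[R] A) => k.ofConv c) h2).symm

variable {M : Type u} [CommGroup M] {C : Type u} [CommRing C] [HopfAlgebra R C]

/-- Extraction of the coefficient at `m` on the left factor. -/
noncomputable def coefL (m : M) : MonoidAlgebra R M ⊗[R] MonoidAlgebra R M →ₗ[R] MonoidAlgebra R M :=
  (TensorProduct.lid R _).toLinearMap ∘ₗ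
    LinearMap.rTensor _ ((Finsupp.lapply m).comp (MonoidAlgebra.coeffLinearEquiv (R := R)).toLinearMap)

theorem coefL_tmul (m : M) (x y : MonoidAlgebra R M) : coefL m (x ⊗ₜ y) = x.coeff m • y := by
  simp [coefL]

theorem coefL_comul (m : M) (x : MonoidAlgebra R M) :
    coefL m (comul (R := R) x) = MonoidAlgebra.single m (x.coeff m) := by
  classical
  induction x using MonoidAlgebra.induction_linear with
  | zero => simp
  | add a b ha hb => simp [ha, hb]
  | single n r =>
    rw [MonoidAlgebra.comul_single]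
    simp only [CommSemiring.comul_apply, TensorProduct.map_tmul, coefL_tmul, MonoidAlgebra.lsingle_apply]
    by_cases h : n = m
    · subst h; simp
    · simp [h]

theorem single_coeff_mem_range (φ : C →ₐc[R] MonoidAlgebra R M) (c : C) (m : M) :
    MonoidAlgebra.single m ((φ c).coeff m) ∈ LinearMap.range (φ : C →ₐ[R] MonoidAlgebra R M).toLinearMap := by
  rw [← coefL_comul, show comul (R := R) (φ c) = TensorProduct.map (φ : C →ₗ[R] MonoidAlgebra R M) φ (comul c) from
    (CoalgHomClass.map_comp_comul_apply φ c).symm]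
  generalize comul (R := R) c = t
  induction t using TensorProduct.induction_on with
  | zero => simp
  | tmul a b =>
    rw [TensorProduct.map_tmul, coefL_tmul]
    exact Submodule.smul_mem _ _ ⟨b, rfl⟩
  | add a b ha hb => rw [map_add, map_add]; exact add_mem ha hb

/-- A monomorphism into a diagonalisable group is a closed immersion. -/
theorem surjective_of_mono_diag (φ : C →ₐc[R] MonoidAlgebra R M)
    (hmono : ∀ (T : Type u) [CommRing T] [Algebra R T],
      Function.Injective (fun x : MonoidAlgebra R M →ₐ[R] T => x.comp (φ : C →ₐ[R] MonoidAlgebra R M))) :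
    Function.Surjective φ := by
  classical
  set L := LinearMap.range (φ : C →ₐ[R] MonoidAlgebra R M).toLinearMap with hL
  let I : M → Ideal R := fun m => L.comap (MonoidAlgebra.lsingle m)
  have hI : ∀ m r, r ∈ I m ↔ MonoidAlgebra.single m r ∈ L := fun m r => Iff.rfl
  have hone : (1 : R) ∈ I 1 := by rw [hI]; exact ⟨1, map_one (φ : C →ₐ[R] MonoidAlgebra R M)⟩
  have hmul : ∀ m n r s, r ∈ I m → s ∈ I n → r * s ∈ I (m * n) := by
    intro m n r s ⟨a, ha⟩ ⟨b, hb⟩
    rw [hI, ← MonoidAlgebra.single_mul_single]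
    refine ⟨a * b, ?_⟩
    change (φ : C →ₐ[R] MonoidAlgebra R M) (a * b) = _
    rw [map_mul]
    exact congrArg₂ (· * ·) ha hb
  have hinv : ∀ m r, r ∈ I m → r ∈ I m⁻¹ := by
    intro m r ⟨a, ha⟩
    rw [hI]
    refine ⟨HopfAlgebra.antipode R a, ?_⟩
    change φ (HopfAlgebra.antipode R a) = _
    rw [map_antipode, show φ a = MonoidAlgebra.single m r from ha]
    simp
  suffices htop : ∀ m, I m = ⊤ by
    intro x
    suffices x ∈ L from this
    induction x using MonoidAlgebra.induction_linear with
    | zero => exact zero_mem _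
    | add a b ha hb => exact add_mem ha hb
    | single m r => exact (hI m r).mp (htop m ▸ Submodule.mem_top)
  intro m₀
  by_contra hne
  obtain ⟨p, hp, hle⟩ := Ideal.exists_le_maximal _ hne
  let N : Subgroup M :=
    { carrier := {m | ¬ I m ≤ p}
      one_mem' := fun h => hp.ne_top ((Ideal.eq_top_iff_one _).mpr (h hone))
      mul_mem' := by
        intro m n hm hn h
        obtain ⟨r, hr, hrp⟩ := Set.not_subset.mp hm
        obtain ⟨s, hs, hsp⟩ := Set.not_subset.mp hn
        exact (hp.isPrime.mem_or_mem (h (hmul m n r s hr hs))).elim hrp hsp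
      inv_mem' := by
        intro m hm h
        exact hm fun r hr => h (hinv m r hr) }
  let q : R →+* R ⧸ p := Ideal.Quotient.mk p
  let T := MonoidAlgebra (R ⧸ p) (M ⧸ N)
  let x : MonoidAlgebra R M →ₐ[R] T := MonoidAlgebra.lift R T M
    ((MonoidAlgebra.of (R ⧸ p) (M ⧸ N)).comp (QuotientGroup.mk' N))
  let y : MonoidAlgebra R M →ₐ[R] T := MonoidAlgebra.lift R T M 1
  have hxy : x = y := by
    apply hmono T
    refine AlgHom.ext fun c => ?_
    change x (φ c) = y (φ c)
    have hc : ∀ m, (φ c).coeff m ∈ I m := fun m => (hI m _).mpr (single_coeff_mem_range φ c m)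
    rw [MonoidAlgebra.lift_apply, MonoidAlgebra.lift_apply]
    refine Finsupp.sum_congr fun m _ => ?_
    by_cases hm : m ∈ N
    · simp [(QuotientGroup.eq_one_iff m).mpr hm]
      rfl
    · have h0 : q ((φ c).coeff m) = 0 := Ideal.Quotient.eq_zero_iff_mem.mpr (not_not.mp hm (hc m))
      rw [Algebra.smul_def, Algebra.smul_def, IsScalarTower.algebraMap_apply R (R ⧸ p) T,
        show algebraMap R (R ⧸ p) ((φ c).coeff m) = 0 from h0, map_zero, zero_mul, zero_mul]
  have hm₀ : m₀ ∈ N := by
    have h := DFunLike.congr_fun hxy (MonoidAlgebra.single m₀ 1)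
    simp only [x, y, MonoidAlgebra.lift_single, one_smul, MonoidHom.comp_apply, MonoidHom.one_apply] at h
    have : Nontrivial (R ⧸ p) := Ideal.Quotient.nontrivial_iff.mpr hp.ne_top
    exact (QuotientGroup.eq_one_iff m₀).mp (MonoidAlgebra.of_injective (h.trans (map_one _).symm))
  exact hm₀ hle

end Groth.Agent.SGA3bLib

namespace Groth.Agent.SGA3bLib

section BaseChange

variable {R : Type u} [CommRing R] {A C : Type u} [CommRing A] [HopfAlgebra R A] [CommRing C] [HopfAlgebra R C]

/-- Monomorphy is stable under base change. -/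
theorem mono_baseChange (φ : C →ₐc[R] A)
    (hmono : ∀ (T : Type u) [CommRing T] [Algebra R T],
      Function.Injective (fun x : A →ₐ[R] T => x.comp (φ : C →ₐ[R] A)))
    (R' : Type u) [CommRing R'] [Algebra R R'] :
    ∀ (T : Type u) [CommRing T] [Algebra R' T], Function.Injective (fun x : (R' ⊗[R] A) →ₐ[R'] T =>
      x.comp ((Bialgebra.TensorProduct.map (BialgHom.id R' R') φ : R' ⊗[R] C →ₐc[R'] R' ⊗[R] A) :
        R' ⊗[R] C →ₐ[R'] R' ⊗[R] A)) := by
  intro T _ _ x y hxy
  let : Algebra R T := ((algebraMap R' T).comp (algebraMap R R')).toAlgebra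
  have : IsScalarTower R R' T := IsScalarTower.of_algebraMap_eq fun _ => rfl
  let x' := (x.restrictScalars R).comp (Algebra.TensorProduct.includeRight : A →ₐ[R] R' ⊗[R] A)
  let y' := (y.restrictScalars R).comp (Algebra.TensorProduct.includeRight : A →ₐ[R] R' ⊗[R] A)
  have h : x' = y' := hmono T (AlgHom.ext fun c => DFunLike.congr_fun hxy ((1 : R') ⊗ₜ[R] c))
  exact Algebra.TensorProduct.ext (AlgHom.ext fun r => by
    change x (algebraMap R' _ r) = y (algebraMap R' _ r)
    rw [x.commutes, y.commutes]) h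

/-- A monomorphism into a group of multiplicative type of constant type is a closed immersion. -/
theorem surjective_of_mono_const (hA : SGA3b.IsMultTypeConst R A) (φ : C →ₐc[R] A)
    (hmono : ∀ (T : Type u) [CommRing T] [Algebra R T],
      Function.Injective (fun x : A →ₐ[R] T => x.comp (φ : C →ₐ[R] A))) :
    Function.Surjective φ := by
  obtain ⟨R', _, _, hff, M, _, ⟨e⟩⟩ := hA
  let φ' : R' ⊗[R] C →ₐc[R'] R' ⊗[R] A := Bialgebra.TensorProduct.map (BialgHom.id _ _) φ
  have h' := mono_baseChange φ hmono R'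
  let ψ : R' ⊗[R] C →ₐc[R'] MonoidAlgebra R' M := (e : R' ⊗[R] A →ₐc[R'] MonoidAlgebra R' M).comp φ'
  have hsur : Function.Surjective ψ := by
    refine surjective_of_mono_diag ψ fun T _ _ x y hxy => ?_
    have hx := h' T (a₁ := x.comp ((e : R' ⊗[R] A →ₐc[R'] MonoidAlgebra R' M) : R' ⊗[R] A →ₐ[R'] MonoidAlgebra R' M))
      (a₂ := y.comp ((e : R' ⊗[R] A →ₐc[R'] MonoidAlgebra R' M) : R' ⊗[R] A →ₐ[R'] MonoidAlgebra R' M))
      (AlgHom.ext fun c => DFunLike.congr_fun hxy c)
    refine AlgHom.ext fun m => ?_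
    obtain ⟨a, rfl⟩ := e.surjective m
    exact DFunLike.congr_fun hx a
  have h2s : Function.Surjective φ' := fun a => by
    obtain ⟨c, hc⟩ := hsur (e a)
    exact ⟨c, e.injective hc⟩
  exact (Module.FaithfullyFlat.lTensor_surjective_iff_surjective R R' (f := (φ : C →ₐ[R] A).toLinearMap)).mp h2s

/-- A monomorphism into a group of multiplicative type is a closed immersion. -/
theorem surjective_of_mono (hA : SGA3b.IsMultType R A) (φ : C →ₐc[R] A)
    (hmono : ∀ (T : Type u) [CommRing T] [Algebra R T],
      Function.Injective (fun x : A →ₐ[R] T => x.comp (φ : C →ₐ[R] A))) :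
    Function.Surjective φ := by
  obtain ⟨s, hs, hloc⟩ := hA
  have hsurj : ∀ f ∈ s, Function.Surjective ((φ : C →ₐ[R] A).toLinearMap.lTensor (Localization.Away f)) := by
    intro f hf
    exact surjective_of_mono_const (hloc f hf) (Bialgebra.TensorProduct.map (BialgHom.id _ _) φ)
      (mono_baseChange φ hmono (Localization.Away f))
  intro a
  let Q := A ⧸ LinearMap.range (φ : C →ₐ[R] A).toLinearMap
  let S : Ideal R := (LinearMap.range (φ : C →ₐ[R] A).toLinearMap).comap (LinearMap.toSpanSingleton R A a)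
  suffices S = ⊤ by
    have h1 : (1 : R) ∈ S := this ▸ Submodule.mem_top
    have : (1 : R) • a ∈ LinearMap.range (φ : C →ₐ[R] A).toLinearMap := h1
    rwa [one_smul] at this
  have hle : s ⊆ (S.radical : Set R) := fun f hf => by
    obtain ⟨z, hz⟩ := hsurj f hf (1 ⊗ₜ a)
    let mC := TensorProduct.mk R (Localization.Away f) C 1
    let mA := TensorProduct.mk R (Localization.Away f) A 1
    have : IsLocalizedModule (Submonoid.powers f) mC :=
      (isLocalizedModule_iff_isBaseChange (Submonoid.powers f) (Localization.Away f) mC).mpr (TensorProduct.isBaseChange R C _)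
    have : IsLocalizedModule (Submonoid.powers f) mA :=
      (isLocalizedModule_iff_isBaseChange (Submonoid.powers f) (Localization.Away f) mA).mpr (TensorProduct.isBaseChange R A _)
    obtain ⟨⟨c, ⟨_, ⟨n, rfl⟩⟩⟩, hc⟩ := IsLocalizedModule.surj (Submonoid.powers f) mC z
    have h1 : mA (f ^ n • a) = mA ((φ : C →ₐ[R] A) c) := by
      have := congrArg ((φ : C →ₐ[R] A).toLinearMap.lTensor (Localization.Away f)) hc
      rw [Submonoid.smul_def, map_smul, hz] at this
      rw [map_smul]
      exact this
    obtain ⟨⟨_, ⟨k, rfl⟩⟩, hk⟩ := IsLocalizedModule.exists_of_eq (S := Submonoid.powers f) h1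
    refine ⟨k + n, ?_⟩
    change f ^ (k + n) • a ∈ LinearMap.range (φ : C →ₐ[R] A).toLinearMap
    rw [pow_add, mul_smul]
    exact ⟨f ^ k • c, (map_smul _ _ _).trans hk.symm⟩
  exact Ideal.radical_eq_top.mp (top_le_iff.mp (hs ▸ Ideal.span_le.mpr hle))

end BaseChange

end Groth.Agent.SGA3bLib
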