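import Groth.Agent.SGA3bLib.Torsion
import Mathlib.RingTheory.Ideal.IdempotentFG
import Mathlib.RingTheory.Nakayama
import Mathlib.RingTheory.LocalRing.ResidueField.Ideal
import Mathlib.RingTheory.FinitePresentation
import Mathlib.RingTheory.Finiteness.Quotient

/-! Subgroups of groups of multiplicative type with trivial special fibre. -/

universe u

open TensorProduct Coalgebra

namespace Groth.Agent.SGA3bLib

theorem finite_quotient_torsion_const {S : Type u} [CommRing S] {B : Type u} [CommRing B] [HopfAlgebra S B]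
    [Algebra.FiniteType S B] (h : SGA3b.IsMultTypeConst S B) {n : ℕ} (hn : 0 < n) :
    Module.Finite S (B ⧸ SGA3b.torsionIdeal S B n) := by
  obtain ⟨R', _, _, hff, M, _, ⟨e⟩⟩ := h
  have := hff
  set T := SGA3b.torsionIdeal S B n
  suffices Module.Finite R' (R' ⊗[S] (B ⧸ T)) from Module.Finite.of_finite_tensorProduct_of_faithfullyFlat R'
  let π : R' ⊗[S] B →ₐ[R'] R' ⊗[S] (B ⧸ T) := Algebra.TensorProduct.map (AlgHom.id _ _) (Ideal.Quotient.mkₐ S T)
  have hπ : Function.Surjective π :=
    LinearMap.lTensor_surjective R' (g := (Ideal.Quotient.mkₐ S T).toLinearMap) Ideal.Quotient.mk_surjective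
  rcases subsingleton_or_nontrivial R' with hR | hR
  · have : Subsingleton (R' ⊗[S] (B ⧸ T)) := Module.subsingleton R' _
    infer_instance
  have : Algebra.FiniteType R' (MonoidAlgebra R' M) :=
    (inferInstance : Algebra.FiniteType R' (R' ⊗[S] B)).equiv e.toAlgEquiv
  have hfg : Group.FG M := Group.fg_iff_monoid_fg.mpr (MonoidAlgebra.finiteType_iff_fg.mp this)
  have : Finite (M ⧸ (powMonoidHom n : M →* M).range) := by
    refine CommGroup.finite_of_fg_isMulTorsion _ fun g => ?_
    obtain ⟨m, rfl⟩ := QuotientGroup.mk'_surjective _ g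
    exact isOfFinOrder_iff_pow_eq_one.mpr ⟨n, hn, by
      rw [← map_pow]; exact (QuotientGroup.eq_one_iff _).mpr ⟨m, rfl⟩⟩
  have : Module.Finite R' (MonoidAlgebra R' (M ⧸ (powMonoidHom n : M →* M).range)) :=
    Module.Finite.equiv (MonoidAlgebra.coeffLinearEquiv R').symm
  let q : R' ⊗[S] B →ₐ[R'] MonoidAlgebra R' (M ⧸ (powMonoidHom n : M →* M).range) :=
    ((MonoidAlgebra.mapDomainBialgHom R' (QuotientGroup.mk' (powMonoidHom n : M →* M).range)).comp
      (e : R' ⊗[S] B →ₐc[R'] MonoidAlgebra R' M) :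
      R' ⊗[S] B →ₐ[R'] MonoidAlgebra R' (M ⧸ (powMonoidHom n : M →* M).range))
  have hq : Function.Surjective q := (mapDomain_surjective _).comp e.surjective
  have hker : RingHom.ker q ≤ RingHom.ker π := by
    intro x hx
    have h1 : x ∈ SGA3b.torsionIdeal R' (R' ⊗[S] B) n := by
      rw [torsionIdeal_eq_comap e, torsionIdeal_monoidAlgebra]
      exact hx
    rw [torsionIdeal_baseChange] at h1
    refine (Ideal.map_le_iff_le_comap.mpr fun a ha => ?_) h1
    simp only [Ideal.mem_comap, RingHom.mem_ker, π, Algebra.TensorProduct.includeRight_apply,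
      Algebra.TensorProduct.map_tmul, AlgHom.id_apply, Ideal.Quotient.mkₐ_eq_mk]
    rw [show Ideal.Quotient.mk T a = 0 from Ideal.Quotient.eq_zero_iff_mem.mpr ha, TensorProduct.tmul_zero]
  refine Module.Finite.of_surjective (AlgHom.liftOfSurjective q hq π hker).toLinearMap fun y => ?_
  obtain ⟨x, rfl⟩ := hπ y
  exact ⟨q x, AlgHom.liftOfSurjective_apply q hq π hker x⟩

theorem finite_quotient_torsion {R : Type u} [CommRing R] {A : Type u} [CommRing A] [HopfAlgebra R A]
    (hft : Algebra.FiniteType R A) (h : SGA3b.IsMultType R A) {n : ℕ} (hn : 0 < n) :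
    Module.Finite R (A ⧸ SGA3b.torsionIdeal R A n) := by
  obtain ⟨s, hs, hloc⟩ := h
  set T := SGA3b.torsionIdeal R A n with hT
  refine Module.Finite.of_localizationSpan' s hs (Rₚ := fun r : s => Localization.Away (r : R))
    (fun r => TensorProduct.mk R (Localization.Away (r : R)) (A ⧸ T) 1) fun r => ?_
  have := finite_quotient_torsion_const (hloc (r : R) r.2) hn
  let π : Localization.Away (r : R) ⊗[R] A →ₐ[Localization.Away (r : R)] Localization.Away (r : R) ⊗[R] (A ⧸ T) :=
    Algebra.TensorProduct.map (AlgHom.id _ _) (Ideal.Quotient.mkₐ R T)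
  let g : (Localization.Away (r : R) ⊗[R] A) ⧸ SGA3b.torsionIdeal (Localization.Away (r : R)) (Localization.Away (r : R) ⊗[R] A) n →ₐ[Localization.Away (r : R)]
      Localization.Away (r : R) ⊗[R] (A ⧸ T) :=
    Ideal.Quotient.liftₐ _ π fun x hx => by
      rw [torsionIdeal_baseChange] at hx
      refine RingHom.mem_ker.mp ((Ideal.map_le_iff_le_comap.mpr fun a ha => ?_) hx)
      simp only [Ideal.mem_comap, RingHom.mem_ker, π, Algebra.TensorProduct.includeRight_apply,
        Algebra.TensorProduct.map_tmul, AlgHom.id_apply, Ideal.Quotient.mkₐ_eq_mk]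
      rw [show Ideal.Quotient.mk T a = 0 from Ideal.Quotient.eq_zero_iff_mem.mpr ha, TensorProduct.tmul_zero]
  refine Module.Finite.of_surjective g.toLinearMap fun y => ?_
  obtain ⟨x, rfl⟩ := LinearMap.lTensor_surjective (Localization.Away (r : R)) (g := (Ideal.Quotient.mkₐ R T).toLinearMap) Ideal.Quotient.mk_surjective y
  exact ⟨Ideal.Quotient.mk _ x, rfl⟩

/-- A diagonalisable group of finite type over a field with all torsion subgroups trivial is trivial. -/
theorem ker_counit_eq_bot_of_torsion {L : Type u} [Field L] {B : Type u} [CommRing B] [HopfAlgebra L B]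
    (hft : Algebra.FiniteType L B) (hd : SGA3b.IsDiag L B)
    (h : ∀ n : ℕ, 0 < n → RingHom.ker (Bialgebra.counitAlgHom L B) ≤ SGA3b.torsionIdeal L B n) :
    RingHom.ker (Bialgebra.counitAlgHom L B) = ⊥ := by
  obtain ⟨G, _, ⟨e⟩⟩ := hd
  have hpow : ∀ n : ℕ, 0 < n → ∀ g : G, g ∈ (powMonoidHom n : G →* G).range := by
    intro n hn g
    have hmem : e.symm (MonoidAlgebra.single g 1 - 1) ∈ RingHom.ker (Bialgebra.counitAlgHom L B) := by
      rw [RingHom.mem_ker, Bialgebra.counitAlgHom_apply, CoalgHomClass.counit_comp_apply]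
      simp
    have h1 := h n hn hmem
    rw [torsionIdeal_eq_comap e, Ideal.mem_comap, torsionIdeal_monoidAlgebra, RingHom.mem_ker] at h1
    have h2 : MonoidAlgebra.mapDomainBialgHom L (QuotientGroup.mk' (powMonoidHom n : G →* G).range)
        (e (e.symm (MonoidAlgebra.single g 1 - 1))) = 0 := h1
    rw [show e (e.symm (MonoidAlgebra.single g 1 - 1)) = MonoidAlgebra.single g 1 - 1 from e.toEquiv.apply_symm_apply _,
      map_sub, map_one, sub_eq_zero] at h2
    have h3 : MonoidAlgebra.single (QuotientGroup.mk' (powMonoidHom n : G →* G).range g) (1 : L) =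
        MonoidAlgebra.single 1 1 := by simpa [MonoidAlgebra.one_def] using h2
    exact (QuotientGroup.eq_one_iff g).mp (MonoidAlgebra.of_injective h3)
  have : Algebra.FiniteType L (MonoidAlgebra L G) := hft.equiv e.toAlgEquiv
  have hfg : Group.FG G := Group.fg_iff_monoid_fg.mpr (MonoidAlgebra.finiteType_iff_fg.mp this)
  have : Module.Finite ℤ (Additive G) := Module.Finite.iff_addGroup_fg.mpr (GroupFG.iff_add_fg.mp hfg)
  have htriv : ∀ g : G, g = 1 := by
    have key : ∀ n : ℕ, 0 < n → (⊤ : Submodule ℤ (Additive G)) ≤ Ideal.span {(n : ℤ)} • ⊤ := by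
      intro n hn x _
      obtain ⟨y, hy⟩ := hpow n hn x.toMul
      have : x = (n : ℤ) • Additive.ofMul y := by
        rw [natCast_zsmul, ← ofMul_pow]
        exact congrArg Additive.ofMul hy.symm
      rw [this]
      exact Submodule.smul_mem_smul (Ideal.mem_span_singleton_self _) trivial
    obtain ⟨r, hr, hr0⟩ := Submodule.exists_sub_one_mem_and_smul_eq_zero_of_fg_of_le_smul (Ideal.span {(2 : ℤ)}) ⊤
      Module.Finite.fg_top (key 2 two_pos)
    intro g
    have hrne : r ≠ 0 := by
      rintro rfl
      rw [Ideal.mem_span_singleton] at hr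
      omega
    obtain ⟨y, hy⟩ := hpow r.natAbs (Int.natAbs_pos.mpr hrne) g
    have h0 := hr0 (Additive.ofMul y) trivial
    have : y ^ r = 1 := congrArg Additive.toMul ((ofMul_zpow r y).trans h0)
    rw [← hy, powMonoidHom_apply, ← zpow_natCast]
    rcases Int.natAbs_eq r with hr' | hr'
    · rw [← hr']; exact this
    · rw [← neg_eq_iff_eq_neg.mpr hr', zpow_neg, this, inv_one]
  have : Subsingleton G := ⟨fun a b => (htriv a).trans (htriv b).symm⟩
  refine eq_bot_iff.mpr fun x hx => ?_
  have hc : Bialgebra.counitAlgHom L (MonoidAlgebra L G) (e x) = 0 := by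
    rw [Bialgebra.counitAlgHom_apply, CoalgHomClass.counit_comp_apply]
    exact hx
  have hsingle : ∀ y : MonoidAlgebra L G, y = algebraMap L _ (Bialgebra.counitAlgHom L (MonoidAlgebra L G) y) := by
    intro y
    induction y using MonoidAlgebra.induction_linear with
    | zero => simp
    | add a b ha hb => rw [map_add, map_add, ← ha, ← hb]
    | single g r =>
      obtain rfl : g = 1 := htriv g
      simp
  apply EquivLike.injective e
  rw [map_zero, hsingle (e x), hc, map_zero]

set_option maxHeartbeats 1000000 in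
/-- A subgroup of a group of multiplicative type over a local ring with trivial special fibre is trivial. -/
theorem eq_ker_counit_of_special {R : Type u} [CommRing R] [IsLocalRing R] {A : Type u} [CommRing A] [HopfAlgebra R A]
    (hft : Algebra.FiniteType R A) (hH : SGA3b.IsMultType R A) (J : Ideal A) [J.IsHopfIdeal R]
    (hK : Algebra.FinitePresentation R (A ⧸ J))
    (hs : J ⊔ Ideal.map (algebraMap R A) (IsLocalRing.maximalIdeal R) =
      RingHom.ker (Bialgebra.counitAlgHom R A) ⊔ Ideal.map (algebraMap R A) (IsLocalRing.maximalIdeal R)) :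
    J = RingHom.ker (Bialgebra.counitAlgHom R A) := by
  set mR := IsLocalRing.maximalIdeal R
  set εA := Bialgebra.counitAlgHom R A
  set εK := Bialgebra.counitAlgHom R (A ⧸ J)
  let π : A →ₐc[R] A ⧸ J := Bialgebra.Quotient.mkBialgHom J
  have hεπ : ∀ a, εK (π a) = εA a := fun a => CoalgHomClass.counit_comp_apply π a
  set IK := RingHom.ker εK with hIK
  have hJle : J ≤ RingHom.ker εA := fun a ha => by
    rw [RingHom.mem_ker, ← hεπ]
    rw [show π a = 0 from Ideal.Quotient.eq_zero_iff_mem.mpr ha, map_zero]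
  suffices hbot : IK = ⊥ by
    refine le_antisymm hJle fun a ha => Ideal.Quotient.eq_zero_iff_mem.mp ?_
    have : π a ∈ IK := by rw [hIK, RingHom.mem_ker, hεπ]; exact ha
    rw [hbot] at this
    exact this
  have hfgK : IK.FG := Algebra.FinitePresentation.ker_fG_of_surjective εK fun r => ⟨algebraMap R _ r, by simp [εK]⟩
  have hdec : ∀ x ∈ IK, x ∈ mR.map (algebraMap R (A ⧸ J)) * IK := by
    intro x hx
    obtain ⟨a, rfl⟩ := Ideal.Quotient.mk_surjective x
    have ha : a ∈ RingHom.ker εA ⊔ mR.map (algebraMap R A) := by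
      refine Ideal.mem_sup_left ?_
      rw [RingHom.mem_ker, ← hεπ]; exact hx
    rw [← hs, Submodule.mem_sup] at ha
    obtain ⟨j, hj, b, hb, rfl⟩ := ha
    have hbI : εA b = 0 := by
      have : εA (j + b) = 0 := by rw [← hεπ]; exact hx
      rwa [map_add, show εA j = 0 from hJle hj, zero_add] at this
    rw [map_add, Ideal.Quotient.eq_zero_iff_mem.mpr hj, zero_add]
    have key : ∀ c ∈ mR.map (algebraMap R A), π c - algebraMap R _ (εA c) ∈ mR.map (algebraMap R (A ⧸ J)) * IK := by
      intro c hc
      rw [Ideal.map] at hc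
      induction hc using Submodule.span_induction with
      | mem y hy => obtain ⟨r, hr, rfl⟩ := hy; simp [εA, AlgHomClass.commutes]
      | zero => simp
      | add y z _ _ hy hz => rw [map_add, map_add, map_add, add_sub_add_comm]; exact add_mem hy hz
      | smul a y hy hy' =>
        have h1 : εA y ∈ mR := by
          have : (mR.map (algebraMap R A)).map εA ≤ mR := by
            rw [Ideal.map_le_iff_le_comap, Ideal.map_le_iff_le_comap]
            intro r hr
            simpa [εA] using hr
          exact this (Ideal.mem_map_of_mem _ hy)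
        have h2 : π a - algebraMap R _ (εA a) ∈ IK := by
          rw [hIK, RingHom.mem_ker, map_sub, hεπ, AlgHom.commutes]; simp
        rw [smul_eq_mul, map_mul, map_mul, map_mul]
        have h3 : π a * π y - algebraMap R _ (εA a) * algebraMap R _ (εA y) =
            π a * (π y - algebraMap R _ (εA y)) + algebraMap R _ (εA y) * (π a - algebraMap R _ (εA a)) := by ring
        rw [h3]
        exact add_mem (Ideal.mul_mem_left _ _ hy') (Ideal.mul_mem_mul (Ideal.mem_map_of_mem _ h1) h2)
    have h4 := key b hb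
    rw [hbI, map_zero, sub_zero] at h4
    exact h4
  obtain ⟨e, he, hIe⟩ : ∃ e : A ⧸ J, IsIdempotentElem e ∧ IK = Ideal.span {e} := by
    obtain ⟨a, ha, ha0⟩ := Submodule.exists_sub_one_mem_and_smul_eq_zero_of_fg_of_le_smul
      (mR.map (algebraMap R (A ⧸ J))) IK hfgK hdec
    have hu : IsUnit (εK a) := by
      have h1 : εK a - 1 ∈ mR := by
        have : (mR.map (algebraMap R (A ⧸ J))).map εK ≤ mR := by
          rw [Ideal.map_le_iff_le_comap, Ideal.map_le_iff_le_comap]
          intro r hr
          simpa [εK] using hr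
        simpa using this (Ideal.mem_map_of_mem εK ha)
      by_contra hnu
      have h2 : εK a ∈ mR := (IsLocalRing.mem_maximalIdeal _).mpr hnu
      exact (IsLocalRing.maximalIdeal.isMaximal R).ne_top ((Ideal.eq_top_iff_one _).mpr (by
        have h3 := Ideal.sub_mem _ h2 h1
        rwa [sub_sub_cancel] at h3))
    have hidem : IsIdempotentElem IK := by
      refine le_antisymm Ideal.mul_le_left fun x hx => ?_
      obtain ⟨u, hu⟩ := hu
      have h1 : a - algebraMap R _ (εK a) ∈ IK := by
        rw [hIK, RingHom.mem_ker, map_sub, AlgHom.commutes]; simp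
      have h2 : x = -(algebraMap R (A ⧸ J) ↑u⁻¹ * ((a - algebraMap R _ (εK a)) * x)) := by
        rw [sub_mul, show a * x = 0 from ha0 x hx, zero_sub, mul_neg, neg_neg, ← mul_assoc, ← map_mul, ← hu,
          Units.inv_mul, map_one, one_mul]
      rw [h2]
      exact neg_mem (Ideal.mul_mem_left _ _ (Ideal.mul_mem_mul h1 hx))
    exact (Ideal.isIdempotentElem_iff_of_fg _ hfgK).mp hidem
  have htor : ∀ n : ℕ, 0 < n → IK ≤ (SGA3b.torsionIdeal R A n).map (π : A →ₐ[R] A ⧸ J) := by
    intro n hn
    set T := (SGA3b.torsionIdeal R A n).map (π : A →ₐ[R] A ⧸ J) with hT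
    have := finite_quotient_torsion hft hH hn
    let g : A ⧸ SGA3b.torsionIdeal R A n →ₐ[R] (A ⧸ J) ⧸ T :=
      Ideal.Quotient.liftₐ _ ((Ideal.Quotient.mkₐ R T).comp (π : A →ₐ[R] A ⧸ J))
        fun a ha => Ideal.Quotient.eq_zero_iff_mem.mpr (Ideal.mem_map_of_mem _ ha)
    have hgs : Function.Surjective g := fun y => by
      obtain ⟨b, rfl⟩ := Ideal.Quotient.mk_surjective y
      obtain ⟨a, rfl⟩ := Ideal.Quotient.mk_surjective b
      exact ⟨Ideal.Quotient.mk _ a, rfl⟩
    have : Module.Finite R ((A ⧸ J) ⧸ T) := Module.Finite.of_surjective g.toLinearMap hgs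
    let em := Ideal.Quotient.mk T e
    let N : Submodule R ((A ⧸ J) ⧸ T) := LinearMap.range (LinearMap.mulLeft R em)
    have hNfg : N.FG := Module.Finite.iff_fg.mp (inferInstance : Module.Finite R N)
    have hle : N ≤ mR • N := by
      rintro _ ⟨y, rfl⟩
      obtain ⟨y, rfl⟩ := Ideal.Quotient.mk_surjective y
      have h1 := hdec (e * y) (hIe ▸ Ideal.mul_mem_right _ _ (Ideal.mem_span_singleton_self e))
      change Ideal.Quotient.mk T e * Ideal.Quotient.mk T y ∈ _
      rw [← map_mul]
      refine Submodule.mul_induction_on h1 (fun c hc d hd => ?_) (fun c d hc hd => by rw [map_add]; exact add_mem hc hd)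
      obtain ⟨d', rfl⟩ := Ideal.mem_span_singleton.mp (hIe ▸ hd)
      rw [Ideal.map] at hc
      clear hd
      induction hc using Submodule.span_induction generalizing d' with
      | mem z hz =>
        obtain ⟨r, hr, rfl⟩ := hz
        rw [← Algebra.smul_def, show Ideal.Quotient.mk T (r • (e * d')) = r • Ideal.Quotient.mk T (e * d') from rfl, map_mul]
        exact Submodule.smul_mem_smul hr ⟨_, rfl⟩
      | zero => simp
      | add z w _ _ hz hw => rw [add_mul, map_add]; exact add_mem (hz d') (hw d')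
      | smul b z _ hz =>
        rw [smul_eq_mul, show b * z * (e * d') = z * (e * (b * d')) by ring]
        exact hz (b * d')
    have hN : N = ⊥ := Submodule.eq_bot_of_le_smul_of_le_jacobson_bot mR N hNfg hle
      (IsLocalRing.maximalIdeal_le_jacobson _)
    rw [hIe, Ideal.span_singleton_le_iff_mem, ← Ideal.Quotient.eq_zero_iff_mem]
    have : em * 1 ∈ N := ⟨1, rfl⟩
    rw [hN, mul_one] at this
    exact this
  rw [hIe, Ideal.span_singleton_eq_bot]
  suffices hnil : IsNilpotent e from he.eq_zero_of_isNilpotent hnil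
  rw [nilpotent_iff_mem_prime]
  intro Q hQ
  let p : Ideal R := Q.comap (algebraMap R (A ⧸ J))
  obtain ⟨s, hs', hloc⟩ := hH
  obtain ⟨f, hf, hfp⟩ : ∃ f ∈ s, f ∉ p := by
    by_contra! hall
    exact (inferInstance : p.IsPrime).ne_top (top_le_iff.mp (hs'.symm.le.trans (Ideal.span_le.mpr hall)))
  obtain ⟨R', _, _, hff, hd⟩ := hloc f hf
  have := hff
  let Rf := Localization.Away f
  obtain ⟨pf, hpf⟩ : (⟨p, inferInstance⟩ : PrimeSpectrum R) ∈ Set.range (PrimeSpectrum.comap (algebraMap R Rf)) := by
    rw [PrimeSpectrum.localization_away_comap_range Rf f]; exact hfp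
  obtain ⟨q, hq⟩ := PrimeSpectrum.comap_surjective_of_faithfullyFlat (A := Rf) (B := R') pf
  let : Algebra R R' := ((algebraMap Rf R').comp (algebraMap R Rf)).toAlgebra
  have : IsScalarTower R Rf R' := IsScalarTower.of_algebraMap_eq fun _ => rfl
  let L := q.asIdeal.ResidueField
  have : IsScalarTower R Rf L := IsScalarTower.of_algebraMap_eq fun r => by
    rw [IsScalarTower.algebraMap_apply R R' L, IsScalarTower.algebraMap_apply R Rf R',
      ← IsScalarTower.algebraMap_apply Rf R' L]
  have hkerL : RingHom.ker (algebraMap R L) = p := by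
    rw [IsScalarTower.algebraMap_eq R Rf L, ← RingHom.comap_ker, IsScalarTower.algebraMap_eq Rf R' L,
      ← RingHom.comap_ker, Ideal.ker_algebraMap_residueField]
    have e1 : q.asIdeal.comap (algebraMap Rf R') = pf.asIdeal := congrArg PrimeSpectrum.asIdeal hq
    rw [e1]
    exact congrArg PrimeSpectrum.asIdeal hpf
  have hspanA := span_groupLike_map (cancelBC (R := R) Rf L A).toBialgHom (cancelBC (R := R) Rf L A).surjective
    (span_groupLike_map (cancelBC (R := Rf) R' L (Rf ⊗[R] A)).toBialgHom
      (cancelBC (R := Rf) R' L (Rf ⊗[R] A)).surjective (span_groupLike_bc L (span_groupLike_of_diag hd)))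
  let πL := bcHom L π
  have hπL : Function.Surjective πL := bcHom_surjective L π Ideal.Quotient.mk_surjective
  have hdK : SGA3b.IsDiag L (L ⊗[R] (A ⧸ J)) := isDiag_of_span_groupLike (span_groupLike_map πL hπL hspanA)
  have hkerK : RingHom.ker (Bialgebra.counitAlgHom L (L ⊗[R] (A ⧸ J))) =
      IK.map (Algebra.TensorProduct.includeRight : A ⧸ J →ₐ[R] L ⊗[R] (A ⧸ J)) := by
    rw [hIK, ← Algebra.TensorProduct.lTensor_ker (A := L) εK (fun r => ⟨algebraMap R _ r, by simp [εK]⟩)]
    ext x
    rw [RingHom.mem_ker, RingHom.mem_ker, show Bialgebra.counitAlgHom L (L ⊗[R] (A ⧸ J)) x =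
      Algebra.TensorProduct.rid R L L (Algebra.TensorProduct.map (AlgHom.id R L) εK x) from ?_]
    · exact EmbeddingLike.map_eq_zero_iff
    · induction x using TensorProduct.induction_on with
      | zero => simp
      | tmul r a => simp [εK, Algebra.smul_def, mul_comm]
      | add x y hx hy => rw [map_add, map_add, map_add, hx, hy]
  have hzero : RingHom.ker (Bialgebra.counitAlgHom L (L ⊗[R] (A ⧸ J))) = ⊥ := by
    refine ker_counit_eq_bot_of_torsion inferInstance hdK fun n hn => ?_
    rw [hkerK, ← map_torsionIdeal πL hπL, torsionIdeal_baseChange]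
    refine (Ideal.map_mono (htor n hn)).trans (le_of_eq ?_)
    change Ideal.map _ (Ideal.map (π : A →ₐ[R] A ⧸ J).toRingHom _) = Ideal.map (πL : L ⊗[R] A →ₐ[L] L ⊗[R] (A ⧸ J)).toRingHom
      (Ideal.map (Algebra.TensorProduct.includeRight : A →ₐ[R] L ⊗[R] A).toRingHom _)
    rw [Ideal.map_map]
    exact Ideal.map_map (π : A →ₐ[R] A ⧸ J).toRingHom
      (Algebra.TensorProduct.includeRight : A ⧸ J →ₐ[R] L ⊗[R] (A ⧸ J)).toRingHom
  have h0 : (1 : L) ⊗ₜ[R] e = 0 := by
    have : (1 : L) ⊗ₜ[R] e ∈ RingHom.ker (Bialgebra.counitAlgHom L (L ⊗[R] (A ⧸ J))) := by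
      rw [hkerK, hIe]; exact Ideal.mem_map_of_mem _ (Ideal.mem_span_singleton_self e)
    rwa [hzero] at this
  -- descend to the residue field of `p`
  let : Algebra p.ResidueField L := (Ideal.ResidueField.lift p (algebraMap R L) hkerL.ge (fun x hx =>
    isUnit_iff_ne_zero.mpr fun h => hx (hkerL ▸ (RingHom.mem_ker).mpr h))).toAlgebra
  have : IsScalarTower R p.ResidueField L := IsScalarTower.of_algebraMap_eq fun r => by
    rw [RingHom.algebraMap_toAlgebra]
    exact (Ideal.ResidueField.lift_algebraMap _ _ _ _ r).symm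
  have h1 : (1 : p.ResidueField) ⊗ₜ[R] e = 0 := by
    apply Module.FaithfullyFlat.tensorProduct_mk_injective (A := p.ResidueField) (B := L) (p.ResidueField ⊗[R] (A ⧸ J))
    apply (Algebra.TensorProduct.cancelBaseChange R p.ResidueField L L (A ⧸ J)).injective
    simp [h0]
  have hkQ : RingHom.ker (algebraMap R Q.ResidueField) = p := by
    rw [IsScalarTower.algebraMap_eq R (A ⧸ J) Q.ResidueField, ← RingHom.comap_ker, Ideal.ker_algebraMap_residueField]
  let : Algebra p.ResidueField Q.ResidueField := (Ideal.ResidueField.lift p (algebraMap R Q.ResidueField) hkQ.ge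
    (fun x hx => isUnit_iff_ne_zero.mpr fun h => hx (hkQ ▸ (RingHom.mem_ker).mpr h))).toAlgebra
  have : IsScalarTower R p.ResidueField Q.ResidueField := IsScalarTower.of_algebraMap_eq fun r => by
    rw [RingHom.algebraMap_toAlgebra]
    exact (Ideal.ResidueField.lift_algebraMap _ _ _ _ r).symm
  let χ : p.ResidueField ⊗[R] (A ⧸ J) →ₐ[R] Q.ResidueField :=
    Algebra.TensorProduct.lift (IsScalarTower.toAlgHom R p.ResidueField Q.ResidueField)
      (IsScalarTower.toAlgHom R (A ⧸ J) Q.ResidueField) fun _ _ => Commute.all _ _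
  have h2 := congrArg χ h1
  rw [Algebra.TensorProduct.lift_tmul, map_zero, map_one, one_mul] at h2
  have h3 : algebraMap (A ⧸ J) Q.ResidueField e = 0 := h2
  rwa [← RingHom.mem_ker, Ideal.ker_algebraMap_residueField] at h3

end Groth.Agent.SGA3bLib
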