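import Groth.Agent.SGA3bLib.Stages
import Mathlib.RingTheory.Finiteness.Nakayama
import Mathlib.RingTheory.Filtration
import Mathlib.RingTheory.LocalRing.MaximalIdeal.Basic
import Mathlib.RingTheory.FiniteType

/-! Rigidity over local rings. -/

universe u

open TensorProduct Coalgebra WithConv

namespace Groth.Agent.SGA3bLib

section Ann

variable {R : Type u} [CommRing R] {N : Type u} [AddCommGroup N] [Module R N]

theorem mem_ann_map {R' : Type u} [CommRing R'] [Algebra R R'] [Module.Flat R R'] {z : N} {t : R'}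
    (h : t • ((1 : R') ⊗ₜ[R] z) = 0) :
    t ∈ Ideal.map (algebraMap R R') (LinearMap.ker (LinearMap.toSpanSingleton R N z)) := by
  rw [TensorProduct.smul_tmul', smul_eq_mul, mul_one] at h
  set g := LinearMap.toSpanSingleton R N z
  have h' : g.lTensor R' (t ⊗ₜ[R] (1 : R)) = 0 := by simpa [g] using h
  obtain ⟨w, hw⟩ := (Module.Flat.lTensor_exact R' (LinearMap.exact_subtype_ker_map g) _).mp h'
  have hw' := congrArg (TensorProduct.rid R R') hw
  rw [TensorProduct.rid_tmul, one_smul] at hw'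
  rw [← hw']
  clear hw hw' h'
  induction w using TensorProduct.induction_on with
  | zero => simp
  | add a b ha hb => simpa only [map_add] using Ideal.add_mem _ ha hb
  | tmul r i =>
    simp only [LinearMap.lTensor_tmul, TensorProduct.rid_tmul, Submodule.subtype_apply, Algebra.smul_def]
    exact Ideal.mul_mem_right _ _ (Ideal.mem_map_of_mem _ i.2)

theorem eq_zero_of_ann [IsLocalRing R] {R₁ : Type u} [CommRing R₁] [Algebra R R₁] [Module.Flat R R₁]
    {R' : Type u} [CommRing R'] [Algebra R₁ R'] [Module.Flat R₁ R']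
    (hne : ((IsLocalRing.maximalIdeal R).map (algebraMap R R₁)).map (algebraMap R₁ R') ≠ ⊤)
    {z : N} {t : R'}
    (ht : t - 1 ∈ ((IsLocalRing.maximalIdeal R).map (algebraMap R R₁)).map (algebraMap R₁ R'))
    (h : t • ((1 : R') ⊗ₜ[R₁] ((1 : R₁) ⊗ₜ[R] z)) = 0) : z = 0 := by
  set I : Ideal R := LinearMap.ker (LinearMap.toSpanSingleton R N z)
  by_contra hz
  have hI : I ≤ IsLocalRing.maximalIdeal R := IsLocalRing.le_maximalIdeal fun h1 => hz (by
    have : (1 : R) ∈ I := h1 ▸ Submodule.mem_top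
    simpa [I] using this)
  have h1 := mem_ann_map h
  have h2 : LinearMap.ker (LinearMap.toSpanSingleton R₁ (R₁ ⊗[R] N) ((1 : R₁) ⊗ₜ[R] z)) ≤
      I.map (algebraMap R R₁) := fun t₁ ht₁ => mem_ann_map (by simpa using ht₁)
  have h3 := Ideal.map_mono (f := algebraMap R₁ R') (h2.trans (Ideal.map_mono hI)) h1
  refine hne ((Ideal.eq_top_iff_one _).mpr ?_)
  simpa using Ideal.sub_mem _ h3 ht

end Ann

section Rigid

variable {R : Type u} [CommRing R] [IsLocalRing R] {A : Type u} [CommRing A] [HopfAlgebra R A]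
  {C : Type u} [CommRing C] [HopfAlgebra R C]

theorem exists_stage (hA : SGA3b.IsMultType R A) :
    ∃ f : R, ∃ (R' : Type u) (_ : CommRing R') (_ : Algebra (Localization.Away f) R'),
      Module.Flat (Localization.Away f) R' ∧
      ((IsLocalRing.maximalIdeal R).map (algebraMap R (Localization.Away f))).map
          (algebraMap (Localization.Away f) R') ≠ ⊤ ∧
      SGA3b.IsDiag R' (R' ⊗[Localization.Away f] (Localization.Away f ⊗[R] A)) := by
  obtain ⟨s, hs, hd⟩ := hA
  obtain ⟨f, hf, hfm⟩ : ∃ f ∈ s, f ∉ IsLocalRing.maximalIdeal R := by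
    by_contra! h
    exact (IsLocalRing.maximalIdeal.isMaximal R).ne_top (top_le_iff.mp (hs ▸ Ideal.span_le.mpr h))
  obtain ⟨R', _, _, _, hdiag⟩ := hd f hf
  refine ⟨f, R', inferInstance, inferInstance, inferInstance, fun h => ?_, hdiag⟩
  have h1 : (IsLocalRing.maximalIdeal R).map (algebraMap R (Localization.Away f)) = ⊤ := by
    rw [← Ideal.comap_map_eq_self_of_faithfullyFlat (A := Localization.Away f) (B := R')
      ((IsLocalRing.maximalIdeal R).map (algebraMap R (Localization.Away f))), h, Ideal.comap_top]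
  exact (IsLocalization.map_algebraMap_ne_top_iff_disjoint (Submonoid.powers f) (Localization.Away f) _).mpr
    (Set.disjoint_left.mpr fun x ⟨n, hn⟩ hx => hfm
      ((IsLocalRing.maximalIdeal.isMaximal R).isPrime.mem_of_pow_mem n (by subst hn; exact hx))) h1

omit [IsLocalRing R] in
/-- The coefficient ideal of the difference of two homomorphisms on generators. -/
theorem exists_fg_coef_ideal {M : Type u} [CommMonoid M] (e : A ≃ₐc[R] MonoidAlgebra R M)
    [Algebra.FiniteType R C] {φ ψ : C →ₐc[R] A} {I : Ideal R}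
    (h : ∀ c, φ c - ψ c ∈ I.map (algebraMap R A)) :
    ∃ J : Ideal R, J.FG ∧ J ≤ I ∧ (∀ c, φ c - ψ c ∈ J.map (algebraMap R A)) ∧
      J = Ideal.span {x | ∃ c m, coef m (e (φ c - ψ c)) = x} := by
  classical
  obtain ⟨S, hS⟩ := (inferInstance : Algebra.FiniteType R C).out
  let T : Finset R := S.biUnion fun c => ((e (φ c - ψ c)).coeff.support).image fun m => coef m (e (φ c - ψ c))
  let J := Ideal.span (T : Set R)
  have hback : ∀ x : A, (∀ m, coef m (e x) ∈ J) → x ∈ J.map (algebraMap R A) := by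
    intro x hx
    let e' : MonoidAlgebra R M →ₐ[R] A := ((e.symm : MonoidAlgebra R M →ₐc[R] A) : MonoidAlgebra R M →ₐ[R] A)
    have := Ideal.mem_map_of_mem e'.toRingHom (mem_map_ideal_iff.mpr hx)
    rw [Ideal.map_map] at this
    rw [← AlgHom.comp_algebraMap e']
    simpa [e'] using this
  have hfwd : ∀ (K : Ideal R) (x : A), x ∈ K.map (algebraMap R A) → ∀ m, coef m (e x) ∈ K := by
    intro K x hx
    let e' : A →ₐ[R] MonoidAlgebra R M := ((e : A →ₐc[R] MonoidAlgebra R M) : A →ₐ[R] MonoidAlgebra R M)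
    refine mem_map_ideal_iff.mp ?_
    rw [← AlgHom.comp_algebraMap e', ← Ideal.map_map]
    exact Ideal.mem_map_of_mem e'.toRingHom hx
  have hgen : ∀ c ∈ S, φ c - ψ c ∈ J.map (algebraMap R A) := fun c hc => hback _ fun m => by
    by_cases hm : m ∈ (e (φ c - ψ c)).coeff.support
    · exact Ideal.subset_span (Finset.mem_biUnion.mpr ⟨c, hc, Finset.mem_image_of_mem _ hm⟩)
    · rw [coef_apply, Finsupp.notMem_support_iff.mp hm]; exact J.zero_mem
  have hall : ∀ c, φ c - ψ c ∈ J.map (algebraMap R A) := by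
    intro c
    have hc : c ∈ Algebra.adjoin R (S : Set C) := hS ▸ trivial
    induction hc using Algebra.adjoin_induction with
    | mem x hx => exact hgen x hx
    | algebraMap r => simp [AlgHomClass.commutes]
    | add x y _ _ hx hy => rw [map_add, map_add, add_sub_add_comm]; exact Ideal.add_mem _ hx hy
    | mul x y _ _ hx hy =>
      rw [map_mul, map_mul, show φ x * φ y - ψ x * ψ y = φ x * (φ y - ψ y) + (φ x - ψ x) * ψ y by ring]
      exact Ideal.add_mem _ (Ideal.mul_mem_left _ _ hy) (Ideal.mul_mem_right _ _ hx)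
  refine ⟨J, Submodule.fg_span T.finite_toSet, Ideal.span_le.mpr fun x hx => ?_, hall,
    le_antisymm (Ideal.span_le.mpr fun x hx => ?_) (Ideal.span_le.mpr ?_)⟩
  · obtain ⟨c, hc, hx⟩ := Finset.mem_biUnion.mp hx
    obtain ⟨m, hm, rfl⟩ := Finset.mem_image.mp hx
    exact hfwd I _ (h c) m
  · obtain ⟨c, hc, hx⟩ := Finset.mem_biUnion.mp hx
    obtain ⟨m, hm, rfl⟩ := Finset.mem_image.mp hx
    exact Ideal.subset_span ⟨c, m, rfl⟩
  · rintro _ ⟨c, m, rfl⟩
    exact hfwd J _ (hall c) m

theorem eq_of_multType_local_finiteType (hA : SGA3b.IsMultType R A) [Algebra.FiniteType R C]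
    {φ ψ : C →ₐc[R] A} (hψ : Adm ψ)
    (h : ∀ c, φ c - ψ c ∈ (IsLocalRing.maximalIdeal R).map (algebraMap R A)) : φ = ψ := by
  obtain ⟨f, R', _, _, _, hne, hdiag⟩ := exists_stage hA
  let R₁ := Localization.Away f
  let φ' := bcHom R' (bcHom R₁ φ)
  let ψ' := bcHom R' (bcHom R₁ ψ)
  obtain ⟨M, _, ⟨e⟩⟩ := hdiag
  obtain ⟨J, hfg, hle, hall, hJ⟩ := exists_fg_coef_ideal e (φ := φ') (ψ := ψ') (hyp_bc R' (hyp_bc R₁ h))
  have hcube : J ≤ J • J := by
    conv_lhs => rw [hJ]
    rw [Ideal.span_le]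
    rintro _ ⟨c, m, rfl⟩
    have h3 := idem_sub_mem_cube (isIdempotentElem_comp _ m) (isIdempotentElem_comp _ m)
      (commute_comp_of_adm e φ' (adm_bc R' (adm_bc R₁ hψ)) m) (sub_mem_of_equiv e hall m) c
    have : coef m (e (φ' c - ψ' c)) ∈ J * J * J := by simpa [comp_apply] using h3
    exact Ideal.mul_mono_left Ideal.mul_le_right this
  obtain ⟨t, ht, ht0⟩ := Submodule.exists_sub_one_mem_and_smul_eq_zero_of_fg_of_le_smul J J hfg hcube
  ext c
  refine sub_eq_zero.mp (eq_zero_of_ann hne (hle ht) ?_)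
  apply EquivLike.injective e
  rw [map_smul, map_zero]
  refine ext_coef fun m => ?_
  rw [map_smul, map_zero]
  refine ht0 _ ?_
  rw [hJ]
  refine Ideal.subset_span ⟨1 ⊗ₜ (1 ⊗ₜ c), m, ?_⟩
  simp only [φ', ψ', bcHom_tmul, TensorProduct.tmul_sub]
  rfl

theorem eq_of_multType_local_noetherian [IsNoetherianRing R] (hA : SGA3b.IsMultType R A) [Algebra.FiniteType R A]
    {φ ψ : C →ₐc[R] A} (hψ : Adm ψ)
    (h : ∀ c, φ c - ψ c ∈ (IsLocalRing.maximalIdeal R).map (algebraMap R A)) : φ = ψ := by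
  classical
  obtain ⟨f, R', _, _, _, hne, hdiag⟩ := exists_stage hA
  let R₁ := Localization.Away f
  obtain ⟨M, _, ⟨e⟩⟩ := hdiag
  set m := IsLocalRing.maximalIdeal R
  set m' := (m.map (algebraMap R R₁)).map (algebraMap R₁ R')
  ext c
  set x := φ c - ψ c with hxdef
  have hstep : ∀ n : ℕ, x ∈ (m ^ (2 * n + 1)).map (algebraMap R A) := by
    intro n
    set K := m ^ (2 * n + 1)
    set K' := (K.map (algebraMap R R₁)).map (algebraMap R₁ R')
    have hK' : m' ^ (2 * n + 1) = K' := by simp only [m', K', K]; rw [← Ideal.map_pow, ← Ideal.map_pow]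
    have h3 : ∀ j, coef j (e ((1 : R') ⊗ₜ ((1 : R₁) ⊗ₜ x))) ∈ K' := fun j => by
      have := idem_sub_mem_pow (isIdempotentElem_comp _ j) (isIdempotentElem_comp _ j)
        (commute_comp_of_adm e (bcHom R' (bcHom R₁ φ)) (adm_bc R' (adm_bc R₁ hψ)) j)
        (sub_mem_of_equiv e (hyp_bc R' (hyp_bc R₁ h)) j) n (1 ⊗ₜ (1 ⊗ₜ c))
      rw [← hK']
      simpa [comp_apply, bcHom_tmul, x, TensorProduct.tmul_sub] using this
    let q : A →ₗ[R] A ⧸ (K • ⊤ : Submodule R A) := Submodule.mkQ _
    let Q := LinearMap.baseChange R' (LinearMap.baseChange R₁ q)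
    have hz : q x = 0 := by
      refine eq_zero_of_ann hne (t := 1) (by simp) ?_
      rw [one_smul]
      change Q ((1 : R') ⊗ₜ ((1 : R₁) ⊗ₜ x)) = 0
      have hkill : ∀ (r : R'), r ∈ K' → ∀ y, r • Q y = 0 := by
        intro r hr
        let Z : Ideal R' := Module.annihilator R' (LinearMap.range Q)
        suffices K' ≤ Z by
          intro y
          exact congrArg Subtype.val (Module.mem_annihilator.mp (this hr) ⟨Q y, y, rfl⟩)
        refine Ideal.map_le_iff_le_comap.mpr (Ideal.map_le_iff_le_comap.mpr fun i hi => ?_)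
        refine Module.mem_annihilator.mpr ?_
        rintro ⟨_, y, rfl⟩
        apply Subtype.ext
        change algebraMap R₁ R' (algebraMap R R₁ i) • Q y = 0
        rw [algebraMap_smul]
        induction y using TensorProduct.induction_on with
        | zero => simp
        | add a b ha hb => rw [map_add, smul_add, ha, hb, add_zero]
        | tmul r w =>
          rw [LinearMap.baseChange_tmul, ← TensorProduct.tmul_smul, algebraMap_smul]
          have : i • LinearMap.baseChange R₁ q w = 0 := by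
            induction w using TensorProduct.induction_on with
            | zero => simp
            | add a b ha hb => rw [map_add, smul_add, ha, hb, add_zero]
            | tmul r a =>
              rw [LinearMap.baseChange_tmul, ← TensorProduct.tmul_smul, ← map_smul,
                show q (i • a) = 0 from (Submodule.Quotient.mk_eq_zero _).mpr
                  (Submodule.smul_mem_smul hi trivial), TensorProduct.tmul_zero]
          rw [this, TensorProduct.tmul_zero]
      obtain ⟨w, hw⟩ : ∃ w, e.symm (e ((1 : R') ⊗ₜ ((1 : R₁) ⊗ₜ x))) = w := ⟨_, rfl⟩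
      have hmem : ((1 : R') ⊗ₜ ((1 : R₁) ⊗ₜ x)) ∈ (K' • ⊤ : Submodule R' (R' ⊗[R₁] (R₁ ⊗[R] A))) := by
        rw [← e.symm_apply_apply ((1 : R') ⊗ₜ ((1 : R₁) ⊗ₜ x)), ← MonoidAlgebra.sum_coeff_single (e ((1 : R') ⊗ₜ ((1 : R₁) ⊗ₜ x))),
          Finsupp.sum, map_sum]
        refine Submodule.sum_mem _ fun j _ => ?_
        rw [← mul_one ((e ((1 : R') ⊗ₜ[R₁] ((1 : R₁) ⊗ₜ[R] x))).coeff j), ← smul_eq_mul,
          ← MonoidAlgebra.smul_single, map_smul]
        exact Submodule.smul_mem_smul (h3 j) trivial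
      refine Submodule.smul_induction_on hmem (fun r hr y _ => ?_) (fun a b ha hb => ?_)
      · rw [map_smul]; exact hkill r hr y
      · rw [map_add, ha, hb, add_zero]
    rw [Submodule.mkQ_apply, Submodule.Quotient.mk_eq_zero, Ideal.smul_top_eq_map] at hz
    exact hz
  have : IsNoetherianRing A := Algebra.FiniteType.isNoetherianRing R A
  have hinf : x ∈ (⨅ n : ℕ, (m.map (algebraMap R A)) ^ n • (⊤ : Submodule A A)) := by
    simp only [Submodule.mem_iInf, smul_eq_mul, Ideal.mul_top]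
    intro n
    have := Ideal.map_mono (f := algebraMap R A) (Ideal.pow_le_pow_right (I := m) (show n ≤ 2 * n + 1 by omega))
      (hstep n)
    rwa [Ideal.map_pow] at this
  obtain ⟨⟨a, ha⟩, hax⟩ := (Ideal.mem_iInf_smul_pow_eq_bot_iff (m.map (algebraMap R A)) x).mp hinf
  simp only [smul_eq_mul] at hax
  set z := (1 : R') ⊗ₜ[R₁] ((1 : R₁) ⊗ₜ[R] x)
  let J : Ideal R' := Ideal.span (((e z).coeff.support).image fun j => coef j (e z) : Finset R')
  have hcoefJ : ∀ j, coef j (e z) ∈ J := fun j => by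
    by_cases hj : j ∈ (e z).coeff.support
    · exact Ideal.subset_span (Finset.mem_coe.mpr (Finset.mem_image_of_mem _ hj))
    · rw [coef_apply, Finsupp.notMem_support_iff.mp hj]; exact J.zero_mem
  have hle : J ≤ m' • J := by
    refine Ideal.span_le.mpr fun y hy => ?_
    obtain ⟨j, _, rfl⟩ := Finset.mem_image.mp (Finset.mem_coe.mp hy)
    have hz : z = ((1 : R') ⊗ₜ[R₁] ((1 : R₁) ⊗ₜ[R] a)) * z := by
      simp [z, hax]
    have hea : ∀ i, coef i (e ((1 : R') ⊗ₜ[R₁] ((1 : R₁) ⊗ₜ[R] a))) ∈ m' := by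
      let ι₁ : A →ₐ[R] R₁ ⊗[R] A := Algebra.TensorProduct.includeRight
      let ι₂ : R₁ ⊗[R] A →ₐ[R₁] R' ⊗[R₁] (R₁ ⊗[R] A) := Algebra.TensorProduct.includeRight
      let e' : R' ⊗[R₁] (R₁ ⊗[R] A) →ₐ[R'] MonoidAlgebra R' M :=
        ((e : R' ⊗[R₁] (R₁ ⊗[R] A) →ₐc[R'] MonoidAlgebra R' M) :
          R' ⊗[R₁] (R₁ ⊗[R] A) →ₐ[R'] MonoidAlgebra R' M)
      refine mem_map_ideal_iff.mp ?_
      have := Ideal.mem_map_of_mem e'.toRingHom (Ideal.mem_map_of_mem ι₂.toRingHom
        (Ideal.mem_map_of_mem ι₁.toRingHom ha))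
      simp only [AlgHom.toRingHom_eq_coe, Ideal.map_map] at this ⊢
      convert this using 2
      swap
      · rfl
      simp only [m', Ideal.map_map, AlgHom.comp_algebraMap]
      congr 1
      refine RingHom.ext fun r => ?_
      simp only [RingHom.coe_comp, Function.comp_apply, RingHom.coe_coe]
      rw [IsScalarTower.algebraMap_apply R R₁ (R₁ ⊗[R] A), AlgHom.commutes ι₂,
        IsScalarTower.algebraMap_apply R₁ R' (R' ⊗[R₁] (R₁ ⊗[R] A)), AlgHom.commutes e']
    show coef j (e z) ∈ m' • J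
    rw [hz, map_mul, coef_apply, MonoidAlgebra.coeff_mul]
    refine Submodule.sum_mem _ fun p _ => Submodule.sum_mem _ fun q _ => ?_
    beta_reduce
    split_ifs
    exacts [Submodule.smul_mem_smul (hea p) (hcoefJ q), Submodule.zero_mem _]
  obtain ⟨t, ht, ht0⟩ := Submodule.exists_sub_one_mem_and_smul_eq_zero_of_fg_of_le_smul m' J
    (Submodule.fg_span (Finset.finite_toSet _)) hle
  refine sub_eq_zero.mp (eq_zero_of_ann hne ht ?_)
  apply EquivLike.injective e
  rw [map_smul, map_zero]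
  refine ext_coef fun j => ?_
  rw [map_smul, map_zero]
  exact ht0 _ (hcoefJ j)

end Rigid

end Groth.Agent.SGA3bLib
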