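import Groth.Agent.SGA3bLib.DiagQuot
import Groth.Agent.SGA3bLib.LocalRigid
import Groth.Agent.SGA3bLib.Torsion
import Mathlib.RingTheory.Ideal.IdempotentFG
import Mathlib.RingTheory.Spectrum.Prime.Topology
import Mathlib.RingTheory.Finiteness.Descent

/-! Closed subgroups of multiplicative type of diagonalisable groups over a connected base. -/

universe u

open TensorProduct Coalgebra

namespace Groth.Agent.SGA3bLib

section GroupLike

variable {R : Type u} [CommRing R] {N : Type u} [CommGroup N]

theorem groupLike_orth {g : MonoidAlgebra R N} (hg : IsGroupLikeElem R g) {m n : N} (h : m ≠ n) :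
    coef m g * coef n g = 0 := by
  classical
  have := coef_coef_comul m n g
  rw [hg.comul_eq_tmul_self, if_neg h] at this
  simpa using this

theorem groupLike_smul {g : MonoidAlgebra R N} (hg : IsGroupLikeElem R g) (n : N) :
    coef n g • g = coef n g • MonoidAlgebra.single n 1 := by
  classical
  refine ext_coef fun m => ?_
  rw [map_smul, map_smul, coef_single]
  by_cases h : n = m
  · subst h
    have := coef_coef_comul n n g
    rw [hg.comul_eq_tmul_self, if_pos rfl] at this
    simpa using this
  · simpa [h] using groupLike_orth hg h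

theorem smul_sub_one_eq_zero_iff {g : MonoidAlgebra R N} (hg : IsGroupLikeElem R g) (t : R) :
    t • (g - 1) = 0 ↔ t ∈ Ideal.span {coef 1 g} := by
  classical
  constructor
  · intro h
    have h1 := congrArg (coef (1 : N)) h
    rw [map_smul, map_sub, map_zero, MonoidAlgebra.one_def, coef_single, if_pos rfl, smul_eq_mul, mul_sub, mul_one,
      sub_eq_zero] at h1
    exact Ideal.mem_span_singleton'.mpr ⟨t, h1⟩
  · intro h
    obtain ⟨a, rfl⟩ := Ideal.mem_span_singleton'.mp h
    rw [mul_smul, smul_sub, groupLike_smul hg 1, ← MonoidAlgebra.one_def, sub_self, smul_zero]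

end GroupLike

variable {R : Type u} [CommRing R] {B : Type u} [CommRing B] [HopfAlgebra R B]

theorem isGroupLike_bc (R' : Type u) [CommRing R'] [Algebra R R'] {g : B} (hg : IsGroupLikeElem R g) :
    IsGroupLikeElem R' ((1 : R') ⊗ₜ[R] g) :=
  ⟨by simp [hg.counit_eq_one, Algebra.smul_def], by simp [hg.comul_eq_tmul_self]⟩

theorem ann_map_eq {N : Type u} [AddCommGroup N] [Module R N] (R' : Type u) [CommRing R'] [Algebra R R']
    [Module.Flat R R'] (z : N) :
    LinearMap.ker (LinearMap.toSpanSingleton R' (R' ⊗[R] N) ((1 : R') ⊗ₜ[R] z)) =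
      Ideal.map (algebraMap R R') (LinearMap.ker (LinearMap.toSpanSingleton R N z)) := by
  refine le_antisymm (fun t ht => mem_ann_map (by simpa using ht)) (Ideal.map_le_iff_le_comap.mpr fun r hr => ?_)
  have hr' : r • z = 0 := by simpa using hr
  simp only [Ideal.mem_comap, LinearMap.mem_ker, LinearMap.toSpanSingleton_apply]
  rw [algebraMap_smul, ← TensorProduct.tmul_smul, hr', TensorProduct.tmul_zero]

theorem ann_groupLike (hconn : ∀ e : R, IsIdempotentElem e → e = 0 ∨ e = 1) (hH : SGA3b.IsMultType R B)
    {g : B} (hg : IsGroupLikeElem R g) (hne : g ≠ 1) :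
    LinearMap.ker (LinearMap.toSpanSingleton R B (g - 1)) = ⊥ := by
  obtain ⟨s, hs, hloc⟩ := hH
  set I : Ideal R := LinearMap.ker (LinearMap.toSpanSingleton R B (g - 1)) with hI
  have key : ∀ f ∈ s, ∃ e : Localization.Away f, IsIdempotentElem e ∧
      I.map (algebraMap R (Localization.Away f)) = Ideal.span {e} := by
    intro f hf
    obtain ⟨R', _, _, hff, N, _, ⟨φ⟩⟩ := hloc f hf
    have := hff
    set gφ := φ ((1 : R') ⊗ₜ ((1 : Localization.Away f) ⊗ₜ g)) with hgφdef
    have hgl : IsGroupLikeElem R' gφ := (isGroupLike_bc R' (isGroupLike_bc _ hg)).map φ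
    set a := coef (1 : N) gφ with ha
    have hIR : (I.map (algebraMap R (Localization.Away f))).map (algebraMap (Localization.Away f) R') = Ideal.span {a} := by
      rw [hI, ← ann_map_eq, ← ann_map_eq]
      ext t
      rw [LinearMap.mem_ker, LinearMap.toSpanSingleton_apply, ← smul_sub_one_eq_zero_iff hgl,
        ← map_eq_zero_iff φ φ.injective, map_smul]
      rw [TensorProduct.tmul_sub, TensorProduct.tmul_sub, map_sub, ← Algebra.TensorProduct.one_def,
        ← Algebra.TensorProduct.one_def, map_one]
    have hidem : IsIdempotentElem (I.map (algebraMap R (Localization.Away f))) := by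
      rw [IsIdempotentElem, ← Ideal.comap_map_eq_self_of_faithfullyFlat (B := R') (I.map _ * I.map _),
        Ideal.map_mul, hIR, Ideal.span_singleton_mul_span_singleton]
      have haa : a * a = a := by
        have h2 := congrArg (coef (1 : N)) (groupLike_smul hgl 1)
        classical
        rw [map_smul, map_smul, coef_single, if_pos rfl, smul_eq_mul, smul_eq_mul, mul_one] at h2
        exact h2
      rw [haa, ← hIR, Ideal.comap_map_eq_self_of_faithfullyFlat]
    have hfg : (I.map (algebraMap R (Localization.Away f))).FG :=
      Ideal.FG.of_FG_map_of_faithfullyFlat (S := R') (hIR ▸ ⟨{a}, by simp⟩)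
    exact (Ideal.isIdempotentElem_iff_of_fg _ hfg).mp hidem
  have hpre : ∀ f ∈ s, ∀ q : PrimeSpectrum (Localization.Away f),
      PrimeSpectrum.comap (algebraMap R (Localization.Away f)) q ∈ PrimeSpectrum.zeroLocus (I : Set R) ↔
        q ∈ PrimeSpectrum.zeroLocus ((I.map (algebraMap R (Localization.Away f))) : Set (Localization.Away f)) := by
    intro f _ q
    simp only [PrimeSpectrum.mem_zeroLocus, SetLike.coe_subset_coe]
    exact Ideal.map_le_iff_le_comap.symm
  have hopen : IsOpen (PrimeSpectrum.zeroLocus (I : Set R)) := by
    refine isOpen_iff_forall_mem_open.mpr fun p hp => ?_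
    obtain ⟨f, hf, hfp⟩ : ∃ f ∈ s, f ∉ p.asIdeal := by
      by_contra! hall
      exact p.2.ne_top (top_le_iff.mp (hs ▸ Ideal.span_le.mpr hall))
    obtain ⟨e, he, heI⟩ := key f hf
    refine ⟨PrimeSpectrum.comap (algebraMap R (Localization.Away f)) '' (PrimeSpectrum.basicOpen (1 - e) : Set _),
      ?_, (PrimeSpectrum.localization_away_isOpenEmbedding (Localization.Away f) f).isOpenMap _
        (PrimeSpectrum.basicOpen (1 - e)).2, ?_⟩
    · rintro _ ⟨q, hq, rfl⟩
      rw [hpre f hf, heI, PrimeSpectrum.zeroLocus_span, PrimeSpectrum.mem_zeroLocus, Set.singleton_subset_iff]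
      exact (q.2.mem_or_mem (show e * (1 - e) ∈ q.asIdeal by rw [mul_sub, mul_one, he.eq, sub_self]; exact zero_mem _)).resolve_right hq
    · obtain ⟨q, rfl⟩ : p ∈ Set.range (PrimeSpectrum.comap (algebraMap R (Localization.Away f))) := by
        rw [PrimeSpectrum.localization_away_comap_range (Localization.Away f) f]; exact hfp
      refine ⟨q, ?_, rfl⟩
      rw [hpre f hf, heI, PrimeSpectrum.zeroLocus_span, PrimeSpectrum.mem_zeroLocus, Set.singleton_subset_iff] at hp
      intro h1
      exact q.2.ne_top ((Ideal.eq_top_iff_one _).mpr (by simpa using Ideal.add_mem _ hp h1))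
  obtain ⟨e, he, heV⟩ := PrimeSpectrum.isClopen_iff.mp ⟨PrimeSpectrum.isClosed_zeroLocus _, hopen⟩
  rcases hconn e he with rfl | rfl
  · exfalso
    apply hne
    have h1 : I = ⊤ := by
      rw [← PrimeSpectrum.zeroLocus_empty_iff_eq_top, heV]
      simp
    have : (1 : R) ∈ I := h1 ▸ Submodule.mem_top
    simpa [I, sub_eq_zero] using this
  · have h1 : I ≤ nilradical R := by
      intro r hr
      rw [mem_nilradical, nilpotent_iff_mem_prime]
      intro p hp
      have : (⟨p, hp⟩ : PrimeSpectrum R) ∈ PrimeSpectrum.zeroLocus (I : Set R) := by rw [heV]; simp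
      exact this hr
    refine eq_bot_iff.mpr fun r hr => ?_
    change r = 0
    refine eq_zero_of_localization_span s hs r fun f hf => ?_
    obtain ⟨e, he, heI⟩ := key f hf
    have hnil : IsNilpotent e := by
      have : I.map (algebraMap R (Localization.Away f)) ≤ nilradical _ :=
        Ideal.map_le_iff_le_comap.mpr fun x hx => IsNilpotent.map (h1 hx) _
      exact this (heI ▸ Ideal.mem_span_singleton_self e)
    have : algebraMap R (Localization.Away f) r ∈ Ideal.span {e} := heI ▸ Ideal.mem_map_of_mem _ hr
    rw [he.eq_zero_of_isNilpotent hnil, Ideal.mem_span_singleton, zero_dvd_iff] at this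
    exact this
where
  eq_zero_of_localization_span (s : Set R) (hs : Ideal.span s = ⊤) (r : R)
      (h : ∀ f ∈ s, algebraMap R (Localization.Away f) r = 0) : r = 0 := by
    let ann : Ideal R := LinearMap.ker (LinearMap.toSpanSingleton R R r)
    have hle : s ⊆ ann.radical := by
      intro f hf
      obtain ⟨⟨_, n, rfl⟩, hn⟩ := (IsLocalization.map_eq_zero_iff (Submonoid.powers f) _ r).mp (h f hf)
      exact ⟨n, by simpa [ann] using hn⟩
    have h1 : (1 : R) ∈ ann := by
      rw [Ideal.radical_eq_top.mp (top_le_iff.mp (hs.symm.le.trans (Ideal.span_le.mpr hle)))]; trivial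
    simpa [ann] using h1

/-- A closed subgroup of multiplicative type of a diagonalisable group over a connected base is diagonalisable. -/
theorem isDiag_of_surjective [Nontrivial R] (hconn : ∀ e : R, IsIdempotentElem e → e = 0 ∨ e = 1) {M : Type u} [CommGroup M]
    (π : MonoidAlgebra R M →ₐc[R] B) (hπ : Function.Surjective π) (hH : SGA3b.IsMultType R B) : SGA3b.IsDiag R B := by
  classical
  have hgl : ∀ m, IsGroupLikeElem R (π (MonoidAlgebra.single m 1)) := fun m =>
    (IsGroupLikeElem.map (f := π) ⟨by simp, by simp⟩)
  let mhom : M →* B := (π : MonoidAlgebra R M →ₐ[R] B).toMonoidHom.comp (MonoidAlgebra.of R M)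
  let K : Subgroup M :=
    { carrier := {m | mhom m = 1}
      one_mem' := map_one mhom
      mul_mem' := fun ha hb => by
        simp only [Set.mem_setOf_eq] at ha hb ⊢
        rw [map_mul, ha, hb, one_mul]
      inv_mem' := fun {a} ha => by
        simp only [Set.mem_setOf_eq] at ha ⊢
        have := map_mul mhom a a⁻¹
        rw [mul_inv_cancel, map_one, ha, one_mul] at this
        exact this.symm }
  let q := MonoidAlgebra.mapDomainBialgHom R (QuotientGroup.mk' K)
  have hker : RingHom.ker (π : MonoidAlgebra R M →ₐ[R] B) = RingHom.ker (q : MonoidAlgebra R M →ₐ[R] MonoidAlgebra R (M ⧸ K)) := by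
    refine le_antisymm (fun x hx => ?_) ?_
    · let L : MonoidAlgebra R (M ⧸ K) →ₐ[R] B := MonoidAlgebra.lift R B (M ⧸ K) (QuotientGroup.lift K mhom fun k hk => hk)
      have hL : ∀ y, L (q y) = π y := by
        intro y
        induction y using MonoidAlgebra.induction_linear with
        | zero => simp
        | add a b ha hb => rw [map_add, map_add, map_add, ha, hb]
        | single m r =>
          rw [show MonoidAlgebra.single m r = r • MonoidAlgebra.single m (1 : R) by simp, map_smul, map_smul, map_smul]
          simp [L, q, mhom]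
      suffices hinj : ∀ y, L y = 0 → y = 0 from hinj _ ((hL x).trans hx)
      intro y hy
      refine ext_coef fun c => ?_
      rw [map_zero]
      obtain ⟨s, hs, hloc⟩ := id hH
      refine ann_groupLike.eq_zero_of_localization_span s hs _ fun f hf => ?_
      obtain ⟨R', _, _, hff, N, _, ⟨φ⟩⟩ := hloc f hf
      have := hff
      apply FaithfulSMul.algebraMap_injective (Localization.Away f) R'
      rw [map_zero]
      let ρ : R →+* R' := (algebraMap (Localization.Away f) R').comp (algebraMap R (Localization.Away f))
      change ρ (coef c y) = 0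
      let G : B → MonoidAlgebra R' N := fun b => φ ((1 : R') ⊗ₜ ((1 : Localization.Away f) ⊗ₜ b))
      have hGs : ∀ (r : R) b, G (r • b) = ρ r • G b := fun r b => by
        simp only [G, ρ, RingHom.comp_apply]
        rw [← map_smul φ]
        congr 1
        rw [TensorProduct.tmul_smul, ← algebraMap_smul (Localization.Away f) r ((1 : Localization.Away f) ⊗ₜ[R] b),
          TensorProduct.tmul_smul, ← algebraMap_smul R' (algebraMap R (Localization.Away f) r)]
      have hG0 : G 0 = 0 := by simp [G]
      have hGa : ∀ a b, G (a + b) = G a + G b := fun a b => by simp [G, TensorProduct.tmul_add]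
      have hGm : ∀ a b, G (a * b) = G a * G b := fun a b => by
        simp only [G]; rw [← map_mul]; simp
      let g : M ⧸ K → MonoidAlgebra R' N := fun d => G (L (MonoidAlgebra.single d 1))
      have hglg : ∀ d, IsGroupLikeElem R' (g d) := fun d => by
        obtain ⟨m, rfl⟩ := QuotientGroup.mk'_surjective K d
        simp only [g, G, L, MonoidAlgebra.lift_single, one_smul, QuotientGroup.mk'_apply, QuotientGroup.lift_mk]
        exact (isGroupLike_bc R' (isGroupLike_bc _ (hgl m))).map φ
      have horth : ∀ d, d ≠ c → ∀ n, coef n (g d) * coef n (g c) = 0 := by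
        intro d hd n
        set t := coef n (g d) * coef n (g c)
        have hdc : L (MonoidAlgebra.single (d * c⁻¹) 1) ≠ 1 := by
          obtain ⟨m, hm⟩ := QuotientGroup.mk'_surjective K (d * c⁻¹)
          rw [← hm]
          intro h
          simp only [L, MonoidAlgebra.lift_single, one_smul, QuotientGroup.mk'_apply, QuotientGroup.lift_mk] at h
          exact hd (mul_inv_eq_one.mp (hm.symm.trans ((QuotientGroup.eq_one_iff m).mpr h)))
        have hb : IsGroupLikeElem R (L (MonoidAlgebra.single (d * c⁻¹) 1)) := by
          obtain ⟨m, hm⟩ := QuotientGroup.mk'_surjective K (d * c⁻¹)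
          rw [← hm]
          simpa [L, mhom] using hgl m
        have hann := ann_groupLike hconn hH hb hdc
        have h2 : ∀ t : R', t • (g (d * c⁻¹) - 1) = 0 → t = 0 := by
          intro t ht
          have : t ∈ LinearMap.ker (LinearMap.toSpanSingleton R' _ ((1 : R') ⊗ₜ[Localization.Away f]
              ((1 : Localization.Away f) ⊗ₜ[R] (L (MonoidAlgebra.single (d * c⁻¹) 1) - 1)))) := by
            rw [LinearMap.mem_ker, LinearMap.toSpanSingleton_apply]
            apply EquivLike.injective φ
            rw [map_smul, map_zero, ← ht, TensorProduct.tmul_sub, TensorProduct.tmul_sub, map_sub,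
              ← Algebra.TensorProduct.one_def, ← Algebra.TensorProduct.one_def, map_one]
          rw [ann_map_eq, ann_map_eq, hann, Ideal.map_bot, Ideal.map_bot] at this
          exact this
        have hu : g (d * c⁻¹) * g c = g d := by
          simp only [g]
          rw [← hGm, ← map_mul, MonoidAlgebra.single_mul_single, inv_mul_cancel_right, mul_one]
        have e1 : t • g d = t • MonoidAlgebra.single n 1 := by
          simp only [t, mul_comm (coef n (g d)), mul_smul]
          rw [groupLike_smul (hglg d) n]
        have e2 : t • g c = t • MonoidAlgebra.single n 1 := by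
          simp only [t, mul_smul]
          rw [groupLike_smul (hglg c) n]
        refine h2 t ?_
        obtain ⟨u, hu'⟩ := (hglg c).isUnit
        apply u.isUnit.mul_left_injective
        simp only [zero_mul]
        rw [smul_mul_assoc, sub_mul, one_mul, hu', hu, smul_sub, e1, e2, sub_self]
      have hy' : ∀ n, ρ (coef c y) * coef n (g c) = 0 := by
        intro n
        have h0 : ∀ z, coef n (G (L z)) * coef n (g c) = ρ (coef c z) * coef n (g c) := by
          intro z
          induction z using MonoidAlgebra.induction_linear with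
          | zero => simp [hG0]
          | add a b ha hb => rw [map_add, hGa, map_add, map_add, map_add, add_mul, add_mul, ha, hb]
          | single d r =>
            rw [show MonoidAlgebra.single d r = r • MonoidAlgebra.single d (1 : R) by simp, map_smul, hGs, map_smul,
              map_smul, coef_single, smul_eq_mul, smul_eq_mul, mul_assoc]
            by_cases hd : d = c
            · subst hd
              rw [if_pos rfl, mul_one]
              congr 1
              have := congrArg (coef n) (groupLike_smul (hglg d) n)
              rw [map_smul, map_smul, coef_single, if_pos rfl, smul_eq_mul, smul_eq_mul, mul_one] at this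
              exact this
            · rw [if_neg hd, mul_zero, map_zero, zero_mul]
              exact (congrArg (ρ r * ·) (horth d hd n)).trans (mul_zero _)
        rw [← h0, hy, hG0, map_zero, zero_mul]
      have h3 : ρ (coef c y) • g c = 0 := ext_coef fun n => by rw [map_smul, map_zero]; exact hy' n
      have h4 := congrArg (Coalgebra.counit (R := R')) h3
      rw [map_smul, (hglg c).counit_eq_one, map_zero, smul_eq_mul, mul_one] at h4
      exact h4
    · rw [ker_mapDomain, Ideal.span_le]
      rintro _ ⟨m, hm, rfl⟩
      rw [SetLike.mem_coe, RingHom.mem_ker, map_sub, map_one, sub_eq_zero]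
      exact hm
  exact ⟨M ⧸ K, inferInstance, nonempty_equiv_of_ker_eq π q hπ (mapDomain_surjective K) hker⟩

end Groth.Agent.SGA3bLib
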