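import Groth.Agent.HopfQuot.Basic
import Groth.Agent.HopfQuot.UnipotentBaseChange
import Groth.Agent.HopfQuot.UnipotentCrit
import Groth.Agent.HopfLib.FaithfullyFlat
import Groth.Agent.CohDer1.PointedSplit.Split
import Groth.Agent.IsoTriv.Henselian
import Groth.Agent.IsoTriv.HomDescent
import Groth.Agent.SGA3cLib.GeomConn
import Groth.Agent.CAlgH3.GeomBridge
import Mathlib.RingTheory.Unramified.Basic

/-! Extensions of connected groups of multiplicative type by etale unipotent groups. -/

set_option autoImplicit false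
set_option linter.style.haveILetI false
set_option linter.unusedSectionVars false
set_option backward.isDefEq.respectTransparency.types false
set_option maxHeartbeats 1000000
universe u

open TensorProduct WithConv CategoryTheory Limits AlgebraicGeometry
open Groth.Agent.HopfQuot

noncomputable section

namespace Groth.Agent.SGA3bLib.EtaleUnipRetr

variable {k : Type u} [Field k]

/-- Connectedness with an augmentation is geometric. -/
theorem idempotent_trivial_baseChange (C : Type u) [CommRing C] [Algebra k C] (ε : C →ₐ[k] k)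
    (hconn : ∀ e : C, IsIdempotentElem e → e = 0 ∨ e = 1) (K : Type u) [Field K] [Algebra k K]
    {e : K ⊗[k] C} (he : IsIdempotentElem e) : e = 0 ∨ e = 1 := by
  haveI : Nontrivial C := ε.toRingHom.domain_nontrivial
  haveI : ConnectedSpace (PrimeSpectrum C) := by
    haveI : PreconnectedSpace (PrimeSpectrum C) := preconnectedSpace_iff_clopen.2 fun s hs => by
      obtain ⟨d, hd, rfl⟩ := PrimeSpectrum.isClopen_iff.1 hs
      rcases hconn d hd with rfl | rfl
      · left; simp
      · right; simp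
    exact ⟨inferInstance⟩
  haveI : ConnectedSpace ↥(Spec (CommRingCat.of C)) := ‹ConnectedSpace (PrimeSpectrum C)›
  let x : Spec (CommRingCat.of k) ⟶ Spec (CommRingCat.of C) := Spec.map (CommRingCat.ofHom ε.toRingHom)
  have hx : x ≫ CAlgH3.GeomBridge.str k C = 𝟙 _ := by
    rw [← Spec.map_comp, ← CommRingCat.ofHom_comp, ← Spec.map_id]
    congr 1
    ext c
    exact ε.commutes c
  have := SGA3cLib.geometricallyConnected_of_rational_point k (CAlgH3.GeomBridge.str k C)
    (𝟙 (Spec (CommRingCat.of C))) x hx (by simp)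
  rw [Category.id_comp] at this
  haveI := (CAlgH3.GeomBridge.connected_iff k C).1 this K
  exact CAlgH3.GeomBridge.isIdempotentElem_trivial_of_connected _ he

/-- The idempotent of the identity component. -/
theorem exists_component (A : Type u) [CommRing A] [Algebra k A] [IsNoetherianRing A] (ε : A →ₐ[k] k) :
    ∃ e : A, IsIdempotentElem e ∧ ε e = 1 ∧
      ∀ f : A ⧸ Ideal.span {1 - e}, IsIdempotentElem f → f = 0 ∨ f = 1 := by
  obtain ⟨I, ⟨e, he, hεe, rfl⟩, hmax⟩ := set_has_maximal_iff_noetherian.2 (inferInstance : IsNoetherian A A)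
    {I : Ideal A | ∃ e : A, IsIdempotentElem e ∧ ε e = 1 ∧ Ideal.span {1 - e} = I}
    ⟨_, 1, IsIdempotentElem.one, map_one ε, rfl⟩
  refine ⟨e, he, hεe, fun f hf => ?_⟩
  obtain ⟨f₀, rfl⟩ := Ideal.Quotient.mk_surjective f
  have hf0 : f₀ * f₀ - f₀ ∈ Ideal.span {1 - e} := Ideal.Quotient.eq.1 (by rw [map_mul]; exact hf)
  obtain ⟨c, hc⟩ := Ideal.mem_span_singleton'.1 hf0
  set g := e * f₀ with hg
  have hee : e * e = e := he
  have hgg : IsIdempotentElem g := by
    show g * g = g
    have h1 : e * (f₀ * f₀ - f₀) = 0 := by rw [← hc]; linear_combination -c * hee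
    rw [hg]
    linear_combination h1 + f₀ * f₀ * hee
  have hmk : Ideal.Quotient.mk (Ideal.span {1 - e}) g = Ideal.Quotient.mk _ f₀ := by
    rw [Ideal.Quotient.eq, hg, show e * f₀ - f₀ = (-f₀) * (1 - e) by ring]
    exact Ideal.mul_mem_left _ _ (Ideal.mem_span_singleton_self _)
  have key : ∀ g' : A, IsIdempotentElem g' → g' * e = g' → ε g' = 1 → g' - 1 ∈ Ideal.span {1 - e} := by
    intro g' h1 h2 h3
    have hle : Ideal.span {1 - e} ≤ Ideal.span {1 - g'} := by
      rw [Ideal.span_singleton_le_iff_mem, Ideal.mem_span_singleton']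
      exact ⟨1 - e, by linear_combination h2⟩
    have heq : Ideal.span {1 - e} = Ideal.span {1 - g'} := by
      by_contra hne
      exact hmax _ ⟨g', h1, h3, rfl⟩ (lt_of_le_of_ne hle hne)
    rw [heq, Ideal.mem_span_singleton']
    exact ⟨-1, by ring⟩
  rcases IsIdempotentElem.iff_eq_zero_or_one.1 (hgg.map ε) with h | h
  · left
    have h4 : IsIdempotentElem (e - g) := by
      show (e - g) * (e - g) = e - g
      have hgg' : e * f₀ * (e * f₀) = e * f₀ := hgg
      rw [hg]
      linear_combination hee * (1 - 2 * f₀) + hgg'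
    have h5 := key (e - g) h4 (by rw [hg]; linear_combination hee * (1 - f₀)) (by rw [map_sub, hεe, h, sub_zero])
    rw [← hmk, Ideal.Quotient.eq_zero_iff_mem]
    have h6 : g = -((e - g) - 1) - (1 - e) := by ring
    rw [h6]
    exact sub_mem (neg_mem h5) (Ideal.mem_span_singleton_self _)
  · right
    rw [← hmk, ← map_one (Ideal.Quotient.mk _), Ideal.Quotient.eq]
    exact key g hgg (by rw [hg]; linear_combination hee * f₀) h

section

variable {A B : Type u} [CommRing A] [HopfAlgebra k A] [CommRing B] [HopfAlgebra k B] (ψ : B →ₐc[k] A)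

/-- Points agreeing on the quotient group and congruent modulo a square-zero ideal are equal. -/
theorem eq_of_comp_eq (J : Ideal A) (hJ : J = Ideal.map (ψ : B →+* A) (RingHom.ker (Bialgebra.counitAlgHom k B)))
    [Algebra.FormallyUnramified k (A ⧸ J)] {D : Type u} [CommRing D] [Algebra k D] (I : Ideal D) (hI : I ^ 2 = ⊥)
    (f g : A →ₐ[k] D) (hψ : ∀ b, f (ψ b) = g (ψ b)) (hfg : ∀ a, f a - g a ∈ I) : f = g := by
  let res : Pt k A D →* Pt k B D :=
    MonoidHom.mk' (fun p => toConv (p.ofConv.comp (ψ : B →ₐ[k] A))) fun p q => WithConv.ext (AlgHom.ext fun b => by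
      show (p * q).ofConv (ψ b) = _
      rw [mul_apply, mul_apply, ← CoalgHomClass.map_comp_comul_apply ψ b]
      induction CoalgebraStruct.comul (R := k) b using TensorProduct.induction_on with
      | zero => simp
      | add x y hx hy => simp only [map_add, hx, hy]
      | tmul x y => simp)
  let h : Pt k A D := toConv f * (toConv g)⁻¹
  have hres : res h = 1 := by
    show res (toConv f * (toConv g)⁻¹) = 1
    rw [map_mul, map_inv, mul_inv_eq_one]
    exact WithConv.ext (AlgHom.ext fun b => hψ b)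
  have hkill : Kills J h := by
    intro a ha
    have hle : J ≤ RingHom.ker h.ofConv.toRingHom := by
      rw [hJ, Ideal.map_le_iff_le_comap]
      intro b hb
      show h.ofConv (ψ b) = 0
      have h1 := congrArg (fun p : Pt k B D => p.ofConv b) hres
      rw [one_apply, show CoalgebraStruct.counit (R := k) b = 0 from hb, map_zero] at h1
      exact h1
    exact hle ha
  obtain ⟨φ, hφ⟩ := hkill.exists_push
  have h1kill : Kills J (1 : Pt k A D) := by
    intro a ha
    have hle : J ≤ RingHom.ker (1 : Pt k A D).ofConv.toRingHom := by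
      rw [hJ, Ideal.map_le_iff_le_comap]
      intro b hb
      show (1 : Pt k A D).ofConv (ψ b) = 0
      rw [one_apply, show CoalgebraStruct.counit (R := k) (ψ b) = CoalgebraStruct.counit (R := k) b from
        CoalgHomClass.counit_comp_apply ψ b, show CoalgebraStruct.counit (R := k) b = 0 from hb, map_zero]
    exact hle ha
  obtain ⟨φ₁, hφ₁⟩ := h1kill.exists_push
  have hred : push (Ideal.Quotient.mkₐ k I) h = 1 := by
    show push (Ideal.Quotient.mkₐ k I) (toConv f * (toConv g)⁻¹) = 1
    rw [map_mul, map_inv, mul_inv_eq_one]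
    exact WithConv.ext (AlgHom.ext fun a => Ideal.Quotient.eq.2 (hfg a))
  have hφeq : φ = φ₁ := Algebra.FormallyUnramified.comp_injective I hI (Ideal.Quotient.algHom_ext k (AlgHom.ext fun a => by
    have h1 := congrArg (fun p : Pt k A (D ⧸ I) => p.ofConv a) (hred.trans (map_one (push (Ideal.Quotient.mkₐ k I))).symm)
    rw [← hφ, ← hφ₁] at h1
    exact h1))
  have h1 : h = 1 := by rw [← hφ, ← hφ₁, hφeq]
  have h2 : toConv f = toConv g := mul_inv_eq_one.1 h1
  exact congrArg WithConv.ofConv h2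

/-- A section of an unramified connected cover. -/
theorem injective_of_section (J : Ideal A)
    (hJ : J = Ideal.map (ψ : B →+* A) (RingHom.ker (Bialgebra.counitAlgHom k B)))
    [Algebra.FormallyUnramified k (A ⧸ J)] {K C D : Type u} [Field K] [Algebra k K] [CommRing C] [Algebra K C]
    [Algebra k C] [IsScalarTower k K C] [IsNoetherianRing C] [CommRing D] [Algebra K D] [Nontrivial D]
    (hC : ∀ z : C, IsIdempotentElem z → z = 0 ∨ z = 1) (Φ : C →ₐ[K] D) (s : D →ₐ[K] C) (hΦs : ∀ z, Φ (s z) = z)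
    (ι : A →ₐ[k] C) (hι : ∀ {X : Type u} [CommRing X] [Algebra K X] (f g : C →ₐ[K] X), (∀ a, f (ι a) = g (ι a)) → f = g)
    (hψι : ∀ b, s (Φ (ι (ψ b))) = ι (ψ b)) : Function.Injective Φ := by
  rw [RingHom.injective_iff_ker_eq_bot]
  set N := RingHom.ker (Φ : C →ₐ[K] D) with hN
  let q : C →ₐ[K] C ⧸ N ^ 2 := Ideal.Quotient.mkₐ K (N ^ 2)
  have hIq : (N.map (Ideal.Quotient.mk (N ^ 2))) ^ 2 = ⊥ :=
    (Ideal.map_pow (Ideal.Quotient.mk (N ^ 2)) N 2).symm.trans (Ideal.map_quotient_self (N ^ 2))
  have hfg := eq_of_comp_eq ψ J hJ (N.map (Ideal.Quotient.mk (N ^ 2))) hIq ((q.restrictScalars k).comp ι)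
    (((q.comp (s.comp Φ)).restrictScalars k).comp ι)
    (fun b => (congrArg q (hψι b)).symm)
    fun a => by
      show Ideal.Quotient.mk (N ^ 2) (ι a) - Ideal.Quotient.mk (N ^ 2) (s (Φ (ι a))) ∈ _
      rw [← map_sub]
      refine Ideal.mem_map_of_mem _ ?_
      rw [hN, RingHom.mem_ker, map_sub, hΦs, sub_self]
  have hsub : N ≤ N ^ 2 := fun x hx => by
    have h1 : q = q.comp (s.comp Φ) := hι _ _ fun a => DFunLike.congr_fun hfg a
    rw [← Ideal.Quotient.eq_zero_iff_mem]
    show q x = 0
    rw [h1, AlgHom.comp_apply, AlgHom.comp_apply, show Φ x = 0 from hx, map_zero, map_zero]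
  obtain ⟨d, hd, hNd⟩ := (Ideal.isIdempotentElem_iff_of_fg N (IsNoetherian.noetherian N)).1
    (le_antisymm Ideal.mul_le_left (by rw [← pow_two]; exact hsub))
  show N = ⊥
  rcases hC d hd with h | h
  · rw [hNd, h]; simp
  · exfalso
    have h1 : (1 : C) ∈ N := by rw [hNd, h]; exact Ideal.mem_span_singleton_self _
    rw [hN, RingHom.mem_ker, map_one] at h1
    exact one_ne_zero h1

/-- Over an algebraic closure there is a lifting, and it is injective on the identity component. -/
theorem exists_geometric_retraction [Algebra.FiniteType k A] [Algebra.FiniteType k B]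
    (hB : SGA3b.IsMultTypeConst k B) (hψ : Function.Injective ψ)
    (J : Ideal A) [J.IsHopfIdeal k] (hJ : J = Ideal.map (ψ : B →+* A) (RingHom.ker (Bialgebra.counitAlgHom k B)))
    (hU : HopfRep.IsUnipotent k (A ⧸ J)) :
    ∃ r : AlgebraicClosure k ⊗[k] A →ₐc[AlgebraicClosure k] AlgebraicClosure k ⊗[k] B,
      ∀ b, r ((1 : AlgebraicClosure k) ⊗ₜ[k] ψ b) = (1 : AlgebraicClosure k) ⊗ₜ[k] b := by
  let K := AlgebraicClosure k
  let ψK : K ⊗[k] B →ₐc[K] K ⊗[k] A := Bialgebra.TensorProduct.map (BialgHom.id K K) ψ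
  have hψK : ∀ z, ψK z = Algebra.TensorProduct.map (AlgHom.id K K) (ψ : B →ₐ[k] A) z := fun z => by
    induction z using TensorProduct.induction_on with
    | zero => simp
    | add p q hp hq => simp only [map_add, hp, hq]
    | tmul p q => rfl
  have hψKi : Function.Injective ψK := fun x y h => by
    rw [hψK, hψK] at h
    exact Module.Flat.lTensor_preserves_injective_linearMap (M := K) (ψ : B →ₐ[k] A).toLinearMap hψ h
  let πb : K ⊗[k] A →ₐc[K] K ⊗[k] (A ⧸ J) :=
    Bialgebra.TensorProduct.map (BialgHom.id K K) (Bialgebra.Quotient.mkBialgHom (R := k) J)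
  have hπ : ∀ z, πb z = Algebra.TensorProduct.map (AlgHom.id K K) (Ideal.Quotient.mkₐ k J) z := fun z => by
    induction z using TensorProduct.induction_on with
    | zero => simp
    | add p q hp hq => simp only [map_add, hp, hq]
    | tmul p q => rfl
  have hπs : Function.Surjective πb := fun z => by
    obtain ⟨y, rfl⟩ := LinearMap.lTensor_surjective K (g := (Ideal.Quotient.mkₐ k J).toLinearMap) Ideal.Quotient.mk_surjective z
    exact ⟨y, hπ y⟩
  have hker : RingHom.ker (πb : K ⊗[k] A →+* K ⊗[k] (A ⧸ J)) =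
      Ideal.map (ψK : K ⊗[k] B →+* K ⊗[k] A) (RingHom.ker (Bialgebra.counitAlgHom K (K ⊗[k] B))) := by
    refine le_antisymm ?_ (Ideal.map_le_iff_le_comap.2 fun z hz => ?_)
    · have h1 : RingHom.ker (πb : K ⊗[k] A →+* K ⊗[k] (A ⧸ J)) =
          J.map (Algebra.TensorProduct.includeRight : A →ₐ[k] K ⊗[k] A) := by
        conv_rhs => rw [← (Ideal.Quotient.mkₐ_ker k J : RingHom.ker (Ideal.Quotient.mkₐ k J) = J)]
        ext z
        rw [RingHom.mem_ker]
        show πb z = 0 ↔ _
        rw [hπ]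
        exact SetLike.ext_iff.1 (Algebra.TensorProduct.lTensor_ker (A := K) (Ideal.Quotient.mkₐ k J)
          Ideal.Quotient.mk_surjective) z
      rw [h1, hJ, Ideal.map_le_iff_le_comap, Ideal.map_le_iff_le_comap]
      intro b hb
      refine Ideal.mem_comap.2 (Ideal.mem_comap.2 ?_)
      show (1 : K) ⊗ₜ[k] ψ b ∈ _
      have hb' : (1 : K) ⊗ₜ[k] b ∈ RingHom.ker (Bialgebra.counitAlgHom K (K ⊗[k] B)) := by
        rw [RingHom.mem_ker, Bialgebra.counitAlgHom_apply, TensorProduct.counit_tmul,
          show CoalgebraStruct.counit (R := k) b = 0 from hb, zero_smul]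
      have h2 := Ideal.mem_map_of_mem (ψK : K ⊗[k] B →+* K ⊗[k] A) hb'
      exact h2
    · show πb (ψK z) = 0
      have h1 : ∀ z, πb (ψK z) = algebraMap K (K ⊗[k] (A ⧸ J)) (Bialgebra.counitAlgHom K (K ⊗[k] B) z) := fun z => by
        induction z using TensorProduct.induction_on with
        | zero => simp
        | add p q hp hq => simp only [map_add, hp, hq]
        | tmul p q =>
          rw [hψK, hπ, Algebra.TensorProduct.map_tmul, Algebra.TensorProduct.map_tmul, Bialgebra.counitAlgHom_apply,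
            TensorProduct.counit_tmul]
          have h2 : Ideal.Quotient.mkₐ k J ((ψ : B →ₐ[k] A) q) =
              algebraMap k (A ⧸ J) (CoalgebraStruct.counit (R := k) q) := by
            show Ideal.Quotient.mk J (ψ q) = Ideal.Quotient.mk J (algebraMap k A _)
            rw [Ideal.Quotient.eq, show algebraMap k A (CoalgebraStruct.counit (R := k) q) =
              ψ (algebraMap k B (CoalgebraStruct.counit (R := k) q)) from ((ψ : B →ₐ[k] A).commutes _).symm, ← map_sub, hJ]
            refine Ideal.mem_map_of_mem _ ?_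
            simp [RingHom.mem_ker]
          rw [h2, Algebra.algebraMap_eq_smul_one, TensorProduct.tmul_smul, Algebra.TensorProduct.algebraMap_apply,
            show CoalgebraStruct.counit (R := K) p = p from rfl, TensorProduct.smul_tmul', Algebra.algebraMap_self,
            RingHom.id_apply]
          rfl
      rw [h1, show Bialgebra.counitAlgHom K (K ⊗[k] B) z = 0 from hz, map_zero]
  set JK := RingHom.ker (πb : K ⊗[k] A →+* K ⊗[k] (A ⧸ J)) with hJK
  haveI : JK.IsHopfIdeal K := HopfLib.isHopfIdeal_ker πb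
  have hUK : HopfRep.IsUnipotent K ((K ⊗[k] A) ⧸ JK) := by
    have h := (isUnipotent_iff_baseChange (K := K)).1 hU
    let ι : ((K ⊗[k] A) ⧸ JK) ≃ₐ[K] K ⊗[k] (A ⧸ J) :=
      Ideal.quotientKerAlgEquivOfSurjective (f := (πb : K ⊗[k] A →ₐ[K] K ⊗[k] (A ⧸ J))) hπs
    have hcomp : ∀ x, ι.symm (πb x) = Ideal.Quotient.mk JK x := fun x => ι.injective (by
      rw [AlgEquiv.apply_symm_apply]; rfl)
    let θ : K ⊗[k] (A ⧸ J) →ₐc[K] (K ⊗[k] A) ⧸ JK :=
      BialgHom.ofAlgHom ι.symm.toAlgHom
        (AlgHom.ext fun z => by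
          obtain ⟨x, rfl⟩ := hπs z
          show Bialgebra.counitAlgHom K _ (ι.symm (πb x)) = _
          rw [hcomp]
          exact (CoalgHomClass.counit_comp_apply (Bialgebra.Quotient.mkBialgHom (R := K) JK) x).trans
            (CoalgHomClass.counit_comp_apply πb x).symm)
        (AlgHom.ext fun z => by
          obtain ⟨x, rfl⟩ := hπs z
          show Algebra.TensorProduct.map _ _ (Bialgebra.comulAlgHom K _ (πb x)) = Bialgebra.comulAlgHom K _ (ι.symm (πb x))
          rw [hcomp, Bialgebra.comulAlgHom_apply, Bialgebra.comulAlgHom_apply, ← CoalgHomClass.map_comp_comul_apply πb x]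
          refine Eq.trans ?_ (CoalgHomClass.map_comp_comul_apply (Bialgebra.Quotient.mkBialgHom (R := K) JK) x)
          induction CoalgebraStruct.comul (R := K) x using TensorProduct.induction_on with
          | zero => simp
          | add p q hp hq => simp only [map_add, hp, hq]
          | tmul p q =>
            show ι.symm (πb p) ⊗ₜ[K] ι.symm (πb q) = _
            rw [hcomp, hcomp]; rfl)
    exact isUnipotent_of_surjective θ ι.symm.surjective h
  obtain ⟨N, _, -, ⟨eN⟩⟩ := IsoTriv.exists_iso_sepClosed (R := k) (A := B) inferInstance hB K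
  let φ : MonoidAlgebra K N →ₐc[K] K ⊗[k] A := ψK.comp (eN.symm : MonoidAlgebra K N →ₐc[K] K ⊗[k] B)
  have hJ' : JK = Ideal.map (φ : MonoidAlgebra K N →+* K ⊗[k] A)
      (RingHom.ker (Bialgebra.counitAlgHom K (MonoidAlgebra K N))) := by
    rw [hker]
    refine congrArg Ideal.span (Set.ext fun a => ⟨?_, ?_⟩)
    · rintro ⟨b, hb, rfl⟩
      exact ⟨eN b, (CoalgHomClass.counit_comp_apply eN b).trans hb, congrArg ψK (eN.symm_apply_apply b)⟩
    · rintro ⟨d, hd, rfl⟩
      exact ⟨eN.symm d, (CoalgHomClass.counit_comp_apply eN.symm d).trans hd, rfl⟩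
  obtain ⟨r, hr⟩ := CohDer1.PointedSplit.exists_retraction φ (hψKi.comp eN.symm.injective) JK hJ' hUK
  refine ⟨(eN.symm : MonoidAlgebra K N →ₐc[K] K ⊗[k] B).comp r, fun b => ?_⟩
  have h1 := DFunLike.congr_fun hr (eN ((1 : K) ⊗ₜ[k] b))
  show eN.symm (r ((1 : K) ⊗ₜ[k] ψ b)) = _
  have h2 : φ (eN ((1 : K) ⊗ₜ[k] b)) = (1 : K) ⊗ₜ[k] ψ b := by
    show ψK (eN.symm (eN _)) = _
    rw [eN.symm_apply_apply, hψK]; rfl
  rw [BialgHom.comp_apply, h2] at h1
  rw [h1]
  exact eN.symm_apply_apply _

/-- Existence and uniqueness of the lifting. -/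
theorem existsUnique_retraction [Algebra.FiniteType k A] [Algebra.FiniteType k B]
    (hB : SGA3b.IsMultTypeConst k B) (hψ : Function.Injective ψ)
    (J : Ideal A) [J.IsHopfIdeal k] (hJ : J = Ideal.map (ψ : B →+* A) (RingHom.ker (Bialgebra.counitAlgHom k B)))
    (hU : HopfRep.IsUnipotent k (A ⧸ J)) [Algebra.FormallyUnramified k (A ⧸ J)]
    (hH : ∀ e : B, IsIdempotentElem e → e = 0 ∨ e = 1) :
    ∃! r : A →ₐc[k] B, r.comp ψ = BialgHom.id k B := by
  classical
  haveI : IsNoetherianRing A := Algebra.FiniteType.isNoetherianRing k A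
  let K := AlgebraicClosure k
  obtain ⟨e, he, hεe, hconn⟩ := exists_component A (Bialgebra.counitAlgHom k A)
  set I := Ideal.span {1 - e} with hI
  obtain ⟨rK, hrK⟩ := exists_geometric_retraction ψ hB hψ J hJ hU
  have hBK : ∀ z : K ⊗[k] B, IsIdempotentElem z → z = 0 ∨ z = 1 := fun z hz =>
    idempotent_trivial_baseChange B (Bialgebra.counitAlgHom k B) hH K hz
  let εA : (A ⧸ I) →ₐ[k] k := Ideal.Quotient.liftₐ I (Bialgebra.counitAlgHom k A) fun x hx => by
    obtain ⟨c, rfl⟩ := Ideal.mem_span_singleton'.1 hx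
    rw [map_mul, map_sub, map_one, hεe, sub_self, mul_zero]
  have hAK : ∀ z : K ⊗[k] (A ⧸ I), IsIdempotentElem z → z = 0 ∨ z = 1 := fun z hz =>
    idempotent_trivial_baseChange (A ⧸ I) εA hconn K hz
  have hre : rK ((1 : K) ⊗ₜ[k] e) = 1 := by
    have hid : IsIdempotentElem ((1 : K) ⊗ₜ[k] e) := by
      show _ * _ = _
      rw [Algebra.TensorProduct.tmul_mul_tmul, one_mul, he.eq]
    rcases hBK _ (hid.map rK) with h | h
    · exfalso
      have h1 := CoalgHomClass.counit_comp_apply rK ((1 : K) ⊗ₜ[k] e)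
      rw [h, map_zero, TensorProduct.counit_tmul, show CoalgebraStruct.counit (R := k) e = 1 from hεe, one_smul] at h1
      exact zero_ne_one h1
    · exact h
  let f₀ : A →ₐ[k] K ⊗[k] B := ((rK : K ⊗[k] A →ₐ[K] K ⊗[k] B).restrictScalars k).comp Algebra.TensorProduct.includeRight
  have hf₀ : ∀ x ∈ I, f₀ x = 0 := fun x hx => by
    obtain ⟨c, rfl⟩ := Ideal.mem_span_singleton'.1 hx
    rw [map_mul, map_sub, map_one, show f₀ e = 1 from hre, sub_self, mul_zero]
  let Φ : K ⊗[k] (A ⧸ I) →ₐ[K] K ⊗[k] B :=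
    Algebra.TensorProduct.lift (Algebra.ofId K _) (Ideal.Quotient.liftₐ I f₀ hf₀) fun _ _ => .all _ _
  have hΦ : ∀ a, Φ ((1 : K) ⊗ₜ[k] Ideal.Quotient.mk I a) = rK ((1 : K) ⊗ₜ[k] a) := fun a => by
    simp [Φ, f₀, ← Algebra.TensorProduct.one_def]
  let Ψ : B →ₐ[k] A ⧸ I := (Ideal.Quotient.mkₐ k I).comp (ψ : B →ₐ[k] A)
  let ΨK : K ⊗[k] B →ₐ[K] K ⊗[k] (A ⧸ I) := Algebra.TensorProduct.map (AlgHom.id K K) Ψ
  have hΦΨ : ∀ z, Φ (ΨK z) = z := fun z => by
    induction z using TensorProduct.induction_on with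
    | zero => simp
    | add p q hp hq => simp only [map_add, hp, hq]
    | tmul c b =>
      rw [show c ⊗ₜ[k] b = c • ((1 : K) ⊗ₜ[k] b) by rw [TensorProduct.smul_tmul', smul_eq_mul, mul_one], map_smul,
        map_smul]
      congr 1
      show Φ ((1 : K) ⊗ₜ[k] Ideal.Quotient.mk I (ψ b)) = _
      rw [hΦ, hrK]
  haveI : IsNoetherianRing (K ⊗[k] (A ⧸ I)) := Algebra.FiniteType.isNoetherianRing K _
  haveI : Nontrivial (K ⊗[k] B) := (Bialgebra.counitAlgHom K (K ⊗[k] B)).toRingHom.domain_nontrivial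
  have hΦinj : Function.Injective Φ :=
    injective_of_section ψ J hJ hAK Φ ΨK hΦΨ (Algebra.TensorProduct.includeRight.comp (Ideal.Quotient.mkₐ k I))
      (fun {X} _ _ f g h => by
        letI : Algebra k X := ((algebraMap K X).comp (algebraMap k K)).toAlgebra
        haveI : IsScalarTower k K X := .of_algebraMap_eq fun _ => rfl
        exact Algebra.TensorProduct.ext (Subsingleton.elim _ _) (AlgHom.ext fun y => by
          obtain ⟨a, rfl⟩ := Ideal.Quotient.mk_surjective y
          exact h a))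
      (fun b => congrArg ΨK (hΦΨ ((1 : K) ⊗ₜ[k] b)))
  have hΨbij : Function.Bijective Ψ := by
    have hK : Function.Bijective (Ψ.toLinearMap.lTensor K) :=
      ⟨fun x y h => (Function.LeftInverse.injective hΦΨ) h,
        fun y => ⟨Φ y, hΦinj (hΦΨ (Φ y))⟩⟩
    exact (Module.FaithfullyFlat.lTensor_bijective_iff_bijective k K Ψ.toLinearMap).1 hK
  let Ψe := AlgEquiv.ofBijective Ψ hΨbij
  let r : A →ₐ[k] B := Ψe.symm.toAlgHom.comp (Ideal.Quotient.mkₐ k I)
  have hrψ : ∀ b, r (ψ b) = b := fun b => Ψe.symm_apply_apply b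
  have hrK' : ∀ a, rK ((1 : K) ⊗ₜ[k] a) = (1 : K) ⊗ₜ[k] r a := fun a => by
    rw [← hrK (r a), ← hΦ, ← hΦ]
    congr 2
    exact (Ψe.apply_symm_apply (Ideal.Quotient.mk I a)).symm
  have hinj1 : Function.Injective (fun z : B ⊗[k] B => (1 : K) ⊗ₜ[k] z) :=
    Algebra.TensorProduct.includeRight_injective (R := k) (A := K) (B := B ⊗[k] B) (algebraMap k K).injective
  have hcounit : ∀ a, CoalgebraStruct.counit (R := k) (r a) = CoalgebraStruct.counit (R := k) a := fun a => by
    have h1 := CoalgHomClass.counit_comp_apply rK ((1 : K) ⊗ₜ[k] a)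
    rw [hrK', TensorProduct.counit_tmul, TensorProduct.counit_tmul] at h1
    refine (algebraMap k K).injective ?_
    rw [Algebra.algebraMap_eq_smul_one, Algebra.algebraMap_eq_smul_one]
    exact h1
  have hcomul : ∀ a, TensorProduct.map r.toLinearMap r.toLinearMap (CoalgebraStruct.comul (R := k) a) =
      CoalgebraStruct.comul (R := k) (r a) := fun a => by
    refine hinj1 ((TensorProduct.AlgebraTensorModule.distribBaseChange k K B B).injective ?_)
    rw [← IsoTriv.comul_one_tmul K (r a), ← hrK', ← CoalgHomClass.map_comp_comul_apply rK, IsoTriv.comul_one_tmul]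
    induction CoalgebraStruct.comul (R := k) a using TensorProduct.induction_on with
    | zero => simp
    | add p q hp hq => simp only [map_add, TensorProduct.tmul_add, hp, hq]
    | tmul p q =>
      simp [TensorProduct.AlgebraTensorModule.distribBaseChange_tmul, hrK']
      rfl
  refine ⟨BialgHom.ofAlgHom r (AlgHom.ext hcounit) (AlgHom.ext hcomul), BialgHom.ext hrψ, fun r' hr' => ?_⟩
  have hr'e : r' e = 1 := by
    rcases hH _ (he.map r') with h | h
    · exfalso
      have h1 := CoalgHomClass.counit_comp_apply r' e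
      rw [h, map_zero, show CoalgebraStruct.counit (R := k) e = 1 from hεe] at h1
      exact zero_ne_one h1
    · exact h
  refine BialgHom.ext fun a => ?_
  show r' a = r a
  have hmem : a - ψ (r a) ∈ I := Ideal.Quotient.eq.1 (Ψe.apply_symm_apply (Ideal.Quotient.mk I a)).symm
  obtain ⟨c, hc⟩ := Ideal.mem_span_singleton'.1 hmem
  have h1 := congrArg r' hc
  rw [map_mul, map_sub, map_one, hr'e, sub_self, mul_zero, map_sub, show r' (ψ (r a)) = r a from
    DFunLike.congr_fun hr' (r a)] at h1
  exact sub_eq_zero.1 h1.symm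

end

end Groth.Agent.SGA3bLib.EtaleUnipRetr
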