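import Groth.Prelude.Def_SGA3b
import Mathlib.RingTheory.Coalgebra.Convolution
import Mathlib.RingTheory.LocalRing.ResidueField.Ideal
import Mathlib.RingTheory.Nakayama
import Mathlib.RingTheory.Filtration
import Mathlib.RingTheory.AdicCompletion.Basic
import Mathlib.RingTheory.Localization.Away.Basic
import Mathlib.RingTheory.Flat.Localization

/-! Rigidity of homomorphisms into diagonalisable Hopf algebras. -/

universe u

open TensorProduct Coalgebra WithConv

namespace Groth.Agent.SGA3bLib

variable {R : Type u} [CommRing R] {M : Type u} [CommMonoid M]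

/-- The coefficient at `m`. -/
noncomputable def coef (m : M) : MonoidAlgebra R M →ₗ[R] R :=
  Finsupp.lapply m ∘ₗ (MonoidAlgebra.coeffLinearEquiv R).toLinearMap

theorem coef_apply (m : M) (x : MonoidAlgebra R M) : coef m x = x.coeff m := rfl

theorem coef_single [DecidableEq M] (m n : M) (r : R) :
    coef m (MonoidAlgebra.single n r) = if n = m then r else 0 := by
  simp [coef_apply, Finsupp.single_apply]

theorem ext_coef {x y : MonoidAlgebra R M} (h : ∀ m, coef m x = coef m y) : x = y := by
  ext m; exact h m

theorem mem_map_ideal_iff {I : Ideal R} {x : MonoidAlgebra R M} :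
    x ∈ I.map (algebraMap R (MonoidAlgebra R M)) ↔ ∀ m, coef m x ∈ I := by
  classical
  constructor
  · intro hx m
    rw [Ideal.map] at hx
    induction hx using Submodule.span_induction generalizing m with
    | mem y hy =>
      obtain ⟨i, hi, rfl⟩ := hy
      rw [MonoidAlgebra.coe_algebraMap, Function.comp_apply, coef_single]
      split_ifs
      exacts [hi, I.zero_mem]
    | zero => simp
    | add a b _ _ ha hb => simpa using I.add_mem (ha m) (hb m)
    | smul a y _ hy =>
      rw [coef_apply, smul_eq_mul, MonoidAlgebra.coeff_mul]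
      refine Ideal.sum_mem _ fun p _ => ?_
      refine Ideal.sum_mem _ fun q _ => ?_
      beta_reduce
      split_ifs
      exacts [I.mul_mem_left _ (hy q), I.zero_mem]
  · intro h
    rw [← MonoidAlgebra.sum_coeff_single x]
    refine Ideal.sum_mem _ fun m _ => ?_
    rw [show MonoidAlgebra.single m (x.coeff m) =
        MonoidAlgebra.single m (1 : R) * algebraMap R (MonoidAlgebra R M) (x.coeff m) by
      rw [MonoidAlgebra.coe_algebraMap, Function.comp_apply, MonoidAlgebra.single_mul_single]; simp]
    exact Ideal.mul_mem_left _ _ (Ideal.mem_map_of_mem _ (h m))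

variable {C : Type u} [CommRing C] [Bialgebra R C]

local notation "F" => WithConv (C →ₗ[R] R)

/-- The component functionals of a map into a group algebra. -/
noncomputable def comp (φ : C →ₐc[R] MonoidAlgebra R M) (m : M) : F :=
  toConv (coef m ∘ₗ φ.toLinearMap)

theorem comp_apply (φ : C →ₐc[R] MonoidAlgebra R M) (m : M) (c : C) :
    (comp φ m).ofConv c = coef m (φ c) := rfl

theorem coef_coef_comul [DecidableEq M] (m n : M) (x : MonoidAlgebra R M) :
    LinearMap.mul' R R (TensorProduct.map (coef m) (coef n) (comul x)) = if m = n then coef m x else 0 := by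
  induction x using MonoidAlgebra.induction_linear with
  | zero => simp
  | add a b ha hb => simp [ha, hb]; split_ifs <;> simp
  | single k r =>
    simp only [MonoidAlgebra.comul_single, CommSemiring.comul_apply, TensorProduct.map_tmul,
      LinearMap.mul'_apply, coef_single, MonoidAlgebra.lsingle_apply]
    by_cases hm : k = m <;> by_cases hn : k = n <;> by_cases hmn : m = n <;> simp_all

theorem comp_mul [DecidableEq M] (φ : C →ₐc[R] MonoidAlgebra R M) (m n : M) :
    comp φ m * comp φ n = if m = n then comp φ m else 0 := by
  refine WithConv.ofConv_injective (LinearMap.ext fun c => ?_)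
  have h : comul (R := R) (φ c) = TensorProduct.map φ.toLinearMap φ.toLinearMap (comul c) :=
    (CoalgHomClass.map_comp_comul_apply φ c).symm
  have := coef_coef_comul m n (φ c)
  rw [h, ← LinearMap.comp_apply (TensorProduct.map (coef m) (coef n)), ← TensorProduct.map_comp] at this
  rw [LinearMap.convMul_apply]
  refine this.trans ?_
  split_ifs <;> simp [comp_apply]

theorem isIdempotentElem_comp (φ : C →ₐc[R] MonoidAlgebra R M) (m : M) : IsIdempotentElem (comp φ m) := by
  classical
  exact (comp_mul φ m m).trans (if_pos rfl)

/-- The trivial homomorphism, componentwise. -/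
theorem coef_algebraMap_counit [DecidableEq M] (m : M) (c : C) :
    coef m (algebraMap R (MonoidAlgebra R M) (counit c)) =
      (if (1 : M) = m then (1 : F) else 0).ofConv c := by
  rw [MonoidAlgebra.coe_algebraMap, Function.comp_apply, coef_single]
  split_ifs <;> simp

theorem mul_mem_mul {I J : Ideal R} {a b : F} (ha : ∀ c, a.ofConv c ∈ I) (hb : ∀ c, b.ofConv c ∈ J) (c : C) :
    (a * b).ofConv c ∈ I * J := by
  rw [LinearMap.convMul_apply]
  generalize comul (R := R) c = t
  induction t using TensorProduct.induction_on with
  | zero => simp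
  | tmul x y => simpa using Ideal.mul_mem_mul (ha x) (hb y)
  | add x y hx hy => simpa using Ideal.add_mem _ hx hy

/-- Differences of commuting idempotents are their own cubes. -/
theorem sub_pow_three {A : Type*} [Ring A] {e f : A} (he : IsIdempotentElem e) (hf : IsIdempotentElem f)
    (h : Commute e f) : (e - f) * (e - f) * (e - f) = e - f := by
  have e2 : e * e = e := he
  have f2 : f * f = f := hf
  have ef : f * e = e * f := h.symm.eq
  simp only [sub_mul, mul_sub, e2, f2, ef, ← mul_assoc]
  simp only [mul_assoc, e2, f2, ef]
  simp only [← mul_assoc, e2, f2, ef]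
  abel

theorem idem_sub_mem_cube {I : Ideal R} {e f : F} (he : IsIdempotentElem e) (hf : IsIdempotentElem f)
    (h : Commute e f) (hI : ∀ c, (e - f).ofConv c ∈ I) (c : C) : (e - f).ofConv c ∈ I * I * I := by
  rw [← sub_pow_three he hf h]
  exact mul_mem_mul (mul_mem_mul hI hI) hI c

theorem idem_sub_mem_pow {I : Ideal R} {e f : F} (he : IsIdempotentElem e) (hf : IsIdempotentElem f)
    (h : Commute e f) (hI : ∀ c, (e - f).ofConv c ∈ I) : ∀ (j : ℕ) (c : C), (e - f).ofConv c ∈ I ^ (2 * j + 1)
  | 0, c => by simpa using hI c
  | j + 1, c => by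
    rw [← sub_pow_three he hf h, show I ^ (2 * (j + 1) + 1) = I ^ (2 * j + 1) * I * I by
      rw [pow_succ, mul_add, pow_succ]]
    exact mul_mem_mul (mul_mem_mul (idem_sub_mem_pow he hf h hI j) hI) hI c

theorem eq_of_idem_of_nilpotent {I : Ideal R} (hnil : IsNilpotent I) {e f : F} (he : IsIdempotentElem e)
    (hf : IsIdempotentElem f) (h : Commute e f) (hI : ∀ c, (e - f).ofConv c ∈ I) : e = f := by
  obtain ⟨k, hk⟩ := hnil
  refine sub_eq_zero.mp (WithConv.ofConv_injective (LinearMap.ext fun c => ?_))
  have h1 := Ideal.pow_le_pow_right (I := I) (show k ≤ 2 * k + 1 by omega) (idem_sub_mem_pow he hf h hI k c)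
  rw [hk] at h1
  simpa using h1

theorem commute_comp_of_isCocomm [Coalgebra.IsCocomm R C] (e f : F) : Commute e f := mul_comm e f

theorem commute_ite (e : F) (p : Prop) [Decidable p] : Commute e (if p then 1 else 0) := by
  split_ifs <;> simp

end Groth.Agent.SGA3bLib
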